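import Cfsg.Agent.H940.FrattiniAut
import Cfsg.Agent.H794.SmallFix
import Cfsg.Agent.Lib.DihedralRecog
import Cfsg.Prelude.Def_CaseTheorems
import Cfsg.Prelude.Def_OddOrderLocal

/-!
# Metacyclic 2-groups (helper745)

* `dihedral_or_of_invert`: `N` cyclic normal, `P/N` cyclic, `g² ∈ N` and `g` moves an element of `N` of order dividing
  4: `P` is dihedral, quaternion or semidihedral.
* `square_one_mem`: outside this case a metacyclic 2-group containing a four-group has exactly 3 involutions.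
* `structure_of_odd_aut`: a metacyclic 2-group with a nontrivial automorphism `κ` of odd order is `N × κ N` or contains
  a quaternion group of order 8.
-/

set_option autoImplicit false

namespace Cfsg.Agent.H745.MetaTwo

open Cfsg

/-- Elements of square one in a finite cyclic group. -/
theorem cyc_sq {C : Type*} [Group C] [Finite C] [IsCyclic C] {a b : C} (ha : a * a = 1)
    (hb : b * b = 1) (hb1 : b ≠ 1) : a = 1 ∨ a = b := by
  classical
  by_contra hcon
  push Not at hcon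
  have := Fintype.ofFinite C
  have h1 := IsCyclic.card_pow_eq_one_le (α := C) (n := 2) (by norm_num)
  have h2 : ({1, a, b} : Finset C) ⊆ Finset.univ.filter (fun x : C => x ^ 2 = 1) := by
    intro x hx
    simp only [Finset.mem_insert, Finset.mem_singleton] at hx
    simp only [Finset.mem_filter, Finset.mem_univ, true_and]
    rcases hx with rfl | rfl | rfl
    · simp
    · rw [pow_two]; exact ha
    · rw [pow_two]; exact hb
  have h3 : ({1, a, b} : Finset C).card = 3 := by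
    rw [Finset.card_insert_of_notMem, Finset.card_insert_of_notMem, Finset.card_singleton]
    · simp [hcon.2]
    · simp [Ne.symm hcon.1, Ne.symm hb1]
  have h4 := Finset.card_le_card h2
  omega

/-- An automorphism of odd order of a cyclic 2-group is trivial. -/
theorem cyc_aut {C : Type*} [Group C] [Finite C] [IsCyclic C] (h2 : IsPGroup 2 C) (κ : MulAut C)
    {m : ℕ} (hm : ¬ 2 ∣ m) (hκ : κ ^ m = 1) : κ = 1 := by
  obtain ⟨k, hk⟩ := IsPGroup.iff_card.1 h2
  have h1 : orderOf κ ∣ Nat.card (MulAut C) := orderOf_dvd_natCard κ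
  rw [IsCyclic.card_mulAut, hk] at h1
  have h3 : orderOf κ ∣ m := orderOf_dvd_of_pow_eq_one hκ
  have h4 : (2 ^ k).totient ∣ 2 ^ k := by
    rcases Nat.eq_zero_or_pos k with h | h
    · simp [h]
    · rw [Nat.totient_prime_pow Nat.prime_two h]
      simp only [Nat.add_one_sub_one, mul_one]
      exact pow_dvd_pow 2 (Nat.sub_le k 1)
  have h5 : Nat.Coprime (orderOf κ) (2 ^ k) :=
    Nat.Coprime.pow_right k (Nat.Coprime.coprime_dvd_left h3
      (((Nat.prime_two.coprime_iff_not_dvd).2 hm).symm))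
  have h6 : orderOf κ = 1 := Nat.eq_one_of_dvd_coprimes h5 dvd_rfl (h1.trans h4)
  exact orderOf_eq_one_iff.1 h6

variable {T : Type*} [Group T] [Finite T]

/-- An automorphism of odd order fixes every element of an invariant cyclic subgroup of a 2-group. -/
theorem fix_of_cyclic (h2 : IsPGroup 2 T) (D : Subgroup T) [IsCyclic D] (κ : MulAut T)
    (hD : ∀ x ∈ D, κ x ∈ D) {m : ℕ} (hm : ¬ 2 ∣ m) (hκ : κ ^ m = 1) : ∀ x ∈ D, κ x = x := by
  obtain ⟨c, hc, ho⟩ := H794.exists_restrict κ D hD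
  have h1 : c ^ m = 1 := orderOf_dvd_iff_pow_eq_one.1 (ho.trans (orderOf_dvd_of_pow_eq_one hκ))
  have h3 := cyc_aut (h2.to_subgroup D) c hm h1
  intro x hx
  have h4 := hc ⟨x, hx⟩
  rw [h3] at h4
  exact h4.symm

/-- Burnside: an automorphism of odd order of a 2-group that is trivial modulo the Frattini subgroup is trivial. -/
theorem burnside (h2 : IsPGroup 2 T) (κ : MulAut T) {m : ℕ} (hm : ¬ 2 ∣ m) (hκ : κ ^ m = 1)
    (h : ∀ x : T, κ x * x⁻¹ ∈ frattini T) : κ = 1 := by
  obtain ⟨n, hn⟩ := IsPGroup.iff_card.1 h2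
  have hr : ∃ r, (frattini T).index = 2 ^ r := by
    have h1 : (frattini T).index ∣ 2 ^ n := by
      rw [← hn]; exact Subgroup.index_dvd_card _
    obtain ⟨r, -, hr⟩ := (Nat.dvd_prime_pow Nat.prime_two).1 h1
    exact ⟨r, hr⟩
  obtain ⟨r, hr⟩ := hr
  have hall : ∀ α ∈ Subgroup.zpowers κ, ∀ x : T, α x * x⁻¹ ∈ frattini T := by
    have hcl : Subgroup.zpowers κ ≤
        { carrier := {φ : MulAut T | ∀ t, φ t * t⁻¹ ∈ frattini T}
          one_mem' := fun t => by simp
          mul_mem' := fun {a b} ha hb t => by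
            have h1 := mul_mem (ha (b t)) (hb t)
            simpa [MulAut.mul_apply, mul_assoc] using h1
          inv_mem' := fun {a} ha t => by
            have h1 := inv_mem (ha (a⁻¹ t))
            rw [MulAut.apply_inv_self] at h1
            simpa using h1 } := by
      rw [Subgroup.zpowers_le]
      exact h
    exact fun φ hφ => hcl hφ
  have h1 := H940.card_trivial_on_frattini_dvd (p := 2) hn hr (Subgroup.zpowers κ) hall
  rw [Nat.card_zpowers] at h1
  have h3 : orderOf κ ∣ m := orderOf_dvd_of_pow_eq_one hκ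
  have h5 : Nat.Coprime (orderOf κ) (2 ^ (r * (n - r))) :=
    Nat.Coprime.pow_right _ (Nat.Coprime.coprime_dvd_left h3
      (((Nat.prime_two.coprime_iff_not_dvd).2 hm).symm))
  exact orderOf_eq_one_iff.1 (Nat.eq_one_of_dvd_coprimes h5 dvd_rfl h1)

/-- If the square of an automorphism of odd order is trivial then so is the automorphism. -/
theorem eq_one_of_sq {A : Type*} [Group A] {κ : A} {m : ℕ} (hm : ¬ 2 ∣ m) (hκ : κ ^ m = 1)
    (h : κ ^ 2 = 1) : κ = 1 := by
  have h1 : orderOf κ ∣ m := orderOf_dvd_of_pow_eq_one hκ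
  have h2 : orderOf κ ∣ 2 := orderOf_dvd_of_pow_eq_one h
  have h3 := (Nat.prime_two.coprime_iff_not_dvd).2 hm
  have h4 : orderOf κ = 1 := Nat.eq_one_of_dvd_coprimes h3.symm h1 h2
  exact orderOf_eq_one_iff.1 h4

omit [Finite T] in
/-- Conjugation on a cyclic normal subgroup of a 2-group is by an odd power. -/
theorem act_odd (h2 : IsPGroup 2 T) (N : Subgroup T) [hN : N.Normal] [IsCyclic N] (g : T) :
    ∃ a : ℤ, Odd a ∧ ∀ v ∈ N, g * v * g⁻¹ = v ^ a := by
  obtain ⟨⟨x, hx⟩, hgen⟩ := IsCyclic.exists_generator (α := N)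
  have hN' : ∀ v ∈ N, ∃ i : ℤ, v = x ^ i := by
    intro v hv
    obtain ⟨i, hi⟩ := hgen ⟨v, hv⟩
    exact ⟨i, (congrArg Subtype.val hi).symm⟩
  obtain ⟨a, ha⟩ := hN' _ (hN.conj_mem x hx g)
  have hpow : ∀ v ∈ N, g * v * g⁻¹ = v ^ a := by
    intro v hv
    obtain ⟨i, rfl⟩ := hN' v hv
    rw [← MulAut.conj_apply, map_zpow, MulAut.conj_apply, ha, ← zpow_mul, ← zpow_mul, mul_comm]
  rcases Int.even_or_odd a with hev | hodd
  · -- then `x = 1`
    obtain ⟨b, hb⟩ := hev
    have hx1 : x = 1 := by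
      obtain ⟨n, hn⟩ := h2 x
      by_contra hne
      have hex : ∃ n : ℕ, x ^ 2 ^ n = 1 := ⟨n, hn⟩
      classical
      have hmin := Nat.find_spec hex
      set k := Nat.find hex with hk
      rcases Nat.eq_zero_or_pos k with h0 | hpos
      · rw [h0] at hmin
        simp at hmin
        exact hne hmin
      · obtain ⟨l, hl⟩ : ∃ l, k = l + 1 := ⟨k - 1, by omega⟩
        have h3 : x ^ 2 ^ l = 1 := by
          have h4 : (g * x * g⁻¹) ^ 2 ^ l = 1 := by
            rw [ha, hb, ← zpow_natCast, ← zpow_mul]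
            have h5 : (b + b) * ((2 ^ l : ℕ) : ℤ) = ((2 ^ k : ℕ) : ℤ) * b := by
              rw [hl, pow_succ]; push_cast; ring
            rw [h5, zpow_mul, zpow_natCast, hmin, one_zpow]
          rw [conj_pow] at h4
          have h5 : x ^ 2 ^ l = g⁻¹ * (g * x ^ 2 ^ l * g⁻¹) * g := by group
          rw [h5, h4]; group
        exact Nat.find_min hex (m := l) (by omega) h3
    refine ⟨1, odd_one, fun v hv => ?_⟩
    obtain ⟨i, hi⟩ := hN' v hv
    rw [hi, hx1]; simp
  · exact ⟨a, hodd, hpow⟩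

/-- If `P/N` is cyclic, every element of `P` is `t ^ k * v` for a fixed `t`. -/
theorem exists_gen (N : Subgroup T) [N.Normal] [IsCyclic (T ⧸ N)] :
    ∃ t : T, ∀ g : T, ∃ k : ℕ, (t ^ k)⁻¹ * g ∈ N := by
  obtain ⟨t', ht⟩ := IsCyclic.exists_generator (α := T ⧸ N)
  obtain ⟨t, rfl⟩ := QuotientGroup.mk_surjective t'
  refine ⟨t, fun g => ?_⟩
  obtain ⟨k, hk⟩ := (mem_powers_iff_mem_zpowers).2 (ht (g : T ⧸ N))
  refine ⟨k, ?_⟩
  rw [← QuotientGroup.eq]
  exact hk

/-- A 2-group with a cyclic normal subgroup `N`, `P/N` cyclic, and an element `g` with `g² ∈ N` acting nontrivially on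
the elements of `N` of order dividing 4, is dihedral, quaternion or semidihedral. -/
theorem dihedral_or_of_invert (h2 : IsPGroup 2 T) (N : Subgroup T) [hN : N.Normal] [IsCyclic N]
    [IsCyclic (T ⧸ N)] {y g : T} (hy : y ∈ N) (hy4 : y ^ 4 = 1) (hg : g * g ∈ N)
    (hgy : g * y * g⁻¹ ≠ y) :
    (∃ m : ℕ, Nonempty (T ≃* DihedralGroup m)) ∨ (∃ m : ℕ, Nonempty (T ≃* QuaternionGroup m)) ∨
      IsQuasiDihedral T := by
  obtain ⟨⟨x, hx⟩, hgen⟩ := IsCyclic.exists_generator (α := N)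
  have hN' : ∀ v ∈ N, ∃ i : ℤ, v = x ^ i := by
    intro v hv
    obtain ⟨i, hi⟩ := hgen ⟨v, hv⟩
    exact ⟨i, (congrArg Subtype.val hi).symm⟩
  have hNz : N = Subgroup.zpowers x := by
    apply le_antisymm
    · intro v hv
      obtain ⟨i, rfl⟩ := hN' v hv
      exact ⟨i, rfl⟩
    · rw [Subgroup.zpowers_le]; exact hx
  obtain ⟨n, hn⟩ := (IsPGroup.iff_orderOf.1 h2) x
  have hcomm : ∀ v ∈ N, ∀ w ∈ N, v * w = w * v := by
    intro v hv w hw
    obtain ⟨i, rfl⟩ := hN' v hv
    obtain ⟨j, rfl⟩ := hN' w hw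
    rw [← zpow_add, ← zpow_add, add_comm]
  have hgN : g ∉ N := by
    intro h
    apply hgy
    rw [hcomm g h y hy]; group
  -- the action of `g`
  obtain ⟨s, hs, hgs⟩ := act_odd h2 N g
  -- `s ≡ 3 mod 4`
  have hs4 : ∃ l : ℤ, s = 4 * l + 3 := by
    obtain ⟨l, hl⟩ := hs
    rcases Int.even_or_odd l with ⟨b, hb⟩ | ⟨b, hb⟩
    · exfalso
      apply hgy
      rw [hgs y hy, hl, hb]
      have : 2 * (b + b) + 1 = ((4 : ℕ) : ℤ) * b + 1 := by push_cast; ring
      rw [this, zpow_add, zpow_mul, zpow_natCast, hy4, one_zpow, one_mul, zpow_one]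
    · exact ⟨b, by rw [hl, hb]; ring⟩
  obtain ⟨l, hl⟩ := hs4
  -- squares act trivially on `y`
  obtain ⟨t, ht⟩ := exists_gen N
  have hsq : ∀ τ : T, (τ * τ) * y * (τ * τ)⁻¹ = y := by
    intro τ
    obtain ⟨a, ha, haτ⟩ := act_odd h2 N τ
    have h1 : (τ * τ) * y * (τ * τ)⁻¹ = τ * (τ * y * τ⁻¹) * τ⁻¹ := by group
    rw [h1, haτ y hy, haτ _ (N.zpow_mem hy a), ← zpow_mul]
    obtain ⟨b, hb⟩ := ha
    have h3 : a * a = ((4 : ℕ) : ℤ) * (b * b + b) + 1 := by rw [hb]; push_cast; ring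
    rw [h3, zpow_add, zpow_mul, zpow_natCast, hy4, one_zpow, one_mul, zpow_one]
  -- `P = N ∪ g N`
  have hcov : ∀ u : T, u ∈ N ∨ g⁻¹ * u ∈ N := by
    obtain ⟨k, hk⟩ := ht g
    have hkodd : Odd k := by
      rcases Nat.even_or_odd k with ⟨b, hb⟩ | h
      · exfalso
        apply hgy
        have h1 : g = (t ^ b * t ^ b) * ((t ^ k)⁻¹ * g) := by
          rw [hb, pow_add]; group
        set v := (t ^ k)⁻¹ * g with hv
        have h3 : v * y * v⁻¹ = y := by rw [hcomm v hk y hy]; group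
        rw [h1]
        have h4 : (t ^ b * t ^ b) * v * y * ((t ^ b * t ^ b) * v)⁻¹ =
          (t ^ b * t ^ b) * (v * y * v⁻¹) * (t ^ b * t ^ b)⁻¹ := by group
        rw [h4, h3, hsq]
      · exact h
    -- in the quotient
    have hgk : (g : T ⧸ N) = (t : T ⧸ N) ^ k := by
      rw [← QuotientGroup.mk_pow]
      exact (QuotientGroup.eq.2 hk).symm
    have ho : orderOf (t : T ⧸ N) ∣ 2 := by
      have h1 : (t : T ⧸ N) ^ (k * 2) = 1 := by
        rw [pow_mul, ← hgk, pow_two, ← QuotientGroup.mk_mul]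
        exact (QuotientGroup.eq_one_iff _).2 hg
      have h3 : orderOf (t : T ⧸ N) ∣ k * 2 := orderOf_dvd_of_pow_eq_one h1
      obtain ⟨e, he⟩ := (IsPGroup.iff_orderOf.1 (h2.to_quotient N)) (t : T ⧸ N)
      have h4 : Nat.Coprime (orderOf (t : T ⧸ N)) k := by
        rw [he]
        exact Nat.Coprime.pow_left _ ((Nat.prime_two.coprime_iff_not_dvd).2
          (by rw [← even_iff_two_dvd]; exact Nat.not_even_iff_odd.2 hkodd))
      exact h4.dvd_of_dvd_mul_left h3
    have ht2 : (t : T ⧸ N) * (t : T ⧸ N) = 1 := by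
      rw [← pow_two]; exact orderOf_dvd_iff_pow_eq_one.1 ho
    have hgt : (g : T ⧸ N) = (t : T ⧸ N) := by
      obtain ⟨b, hb⟩ := hkodd
      rw [hgk, hb, pow_succ, pow_mul, pow_two, ht2, one_pow, one_mul]
    intro u
    obtain ⟨j, hj⟩ := ht u
    have huj : (u : T ⧸ N) = (t : T ⧸ N) ^ j := by
      rw [← QuotientGroup.mk_pow]
      exact (QuotientGroup.eq.2 hj).symm
    rcases Nat.even_or_odd j with ⟨b, hb⟩ | ⟨b, hb⟩
    · left
      rw [← QuotientGroup.eq_one_iff, huj, hb, ← two_mul, pow_mul, pow_two, ht2, one_pow]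
    · right
      rw [← QuotientGroup.eq, hgt, huj, hb, pow_succ, pow_mul, pow_two, ht2, one_pow, one_mul]
  have hidx : N.index = 2 := by
    rw [Subgroup.index_eq_two_iff']
    refine ⟨g⁻¹, fun u => ?_⟩
    by_cases hu : u ∈ N
    · right
      refine ⟨hu, fun h => hgN ?_⟩
      have h1 := N.mul_mem h (N.inv_mem hu)
      rw [mul_inv_cancel_right] at h1
      simpa using N.inv_mem h1
    · left
      exact ⟨(hcov u).resolve_left hu, hu⟩
  have hcardN : Nat.card N = 2 ^ n := by rw [hNz, Nat.card_zpowers, hn]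
  have hcard : Nat.card T = 2 * 2 ^ n := by
    rw [← N.card_mul_index, hidx, hcardN, mul_comm]
  -- `n ≥ 2`
  have hy2 : y ^ 2 ≠ 1 := by
    intro h
    apply hgy
    rw [hgs y hy, hl]
    have : 4 * l + 3 = ((2 : ℕ) : ℤ) * (2 * l + 1) + 1 := by push_cast; ring
    rw [this, zpow_add, zpow_mul, zpow_natCast, h, one_zpow, one_mul, zpow_one]
  have hn2 : 2 ≤ n := by
    by_contra hcon
    obtain ⟨i, hi⟩ := hN' y hy
    apply hy2
    have h1 : x ^ 2 = 1 := by
      apply orderOf_dvd_iff_pow_eq_one.1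
      rw [hn]
      have : n ≤ 1 := by omega
      exact (pow_dvd_pow 2 this).trans (by norm_num)
    rw [hi, ← zpow_natCast, ← zpow_mul, mul_comm, zpow_mul, zpow_natCast, h1, one_zpow]
  obtain ⟨n', hn'⟩ : ∃ n', n = n' + 1 := ⟨n - 1, by omega⟩
  set z := x ^ 2 ^ n' with hz
  have hzz : z * z = 1 := by
    rw [hz, ← pow_add, ← two_mul, ← pow_succ', ← hn', ← hn, pow_orderOf_eq_one]
  have hzN : z ∈ N := N.pow_mem hx _
  -- `2 ^ n ∣ 2 (2 l + 1) c` gives `2 ^ n' ∣ c`
  have hdiv : ∀ c : ℤ, x ^ (2 * (2 * l + 1) * c) = 1 → ∃ q, c = 2 ^ n' * q := by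
    intro c hc
    have h1 : ((orderOf x : ℕ) : ℤ) ∣ 2 * (2 * l + 1) * c := orderOf_dvd_iff_zpow_eq_one.2 hc
    rw [hn, hn'] at h1
    push_cast at h1
    rw [pow_succ', mul_assoc] at h1
    have h3 : (2 : ℤ) ^ n' ∣ (2 * l + 1) * c := by
      exact (mul_dvd_mul_iff_left (by norm_num : (2 : ℤ) ≠ 0)).1 h1
    have h4 : IsCoprime ((2 : ℤ) ^ n') (2 * l + 1) := by
      apply IsCoprime.pow_left
      exact ⟨-l, 1, by ring⟩
    exact h4.dvd_of_dvd_mul_left h3
  have hgx : g * x * g⁻¹ = x ^ s := hgs x hx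
  obtain ⟨q, hq⟩ : ∃ q, s + 1 = 2 ^ n' * q := by
    apply hdiv
    have h1 : (g * g) * x * (g * g)⁻¹ = x := by
      rw [hcomm _ hg x hx]; group
    have h3 : (g * g) * x * (g * g)⁻¹ = g * (g * x * g⁻¹) * g⁻¹ := by group
    rw [h3, hgx, hgs _ (N.zpow_mem hx s), ← zpow_mul] at h1
    have h4 : 2 * (2 * l + 1) * (s + 1) = s * s + -1 := by rw [hl]; ring
    rw [h4, zpow_add, h1, zpow_neg, zpow_one, mul_inv_cancel]
  obtain ⟨j, hj⟩ := hN' _ hg
  obtain ⟨q', hq'⟩ : ∃ q', j = 2 ^ n' * q' := by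
    apply hdiv
    have h1 : g * (g * g) * g⁻¹ = g * g := by group
    rw [hj, hgs _ (N.zpow_mem hx j), ← zpow_mul] at h1
    have h4 : 2 * (2 * l + 1) * j = j * s + -j := by rw [hl]; ring
    rw [h4, zpow_add, h1, zpow_neg, mul_inv_cancel]
  have hzpow : ∀ r : ℤ, x ^ (2 ^ n' * r) = z ^ r := by
    intro r
    rw [zpow_mul, hz]
    congr 1
    rw [← zpow_natCast]; push_cast; rfl
  have hzev : ∀ r : ℤ, Even r → z ^ r = 1 := by
    rintro r ⟨b, rfl⟩
    rw [← two_mul, zpow_mul]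
    have : z ^ (2 : ℤ) = 1 := by rw [zpow_two]; exact hzz
    rw [this, one_zpow]
  have hzodd : ∀ r : ℤ, Odd r → z ^ r = z := by
    rintro r ⟨b, rfl⟩
    rw [zpow_add, hzev _ ⟨b, two_mul b⟩, one_mul, zpow_one]
  have hxs : g * x * g⁻¹ = z ^ q * x⁻¹ := by
    rw [hgx, ← hzpow, ← hq, zpow_add, zpow_one, mul_inv_cancel_right]
  have hgg : g * g = z ^ q' := by rw [hj, hq', hzpow]
  have hns : g ∉ Subgroup.zpowers x := hNz ▸ hgN
  rcases Int.even_or_odd q with hqe | hqo
  · rw [hzev q hqe, one_mul] at hxs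
    rcases Int.even_or_odd q' with hqe' | hqo'
    · left
      rw [hzev q' hqe'] at hgg
      exact ⟨2 ^ n, Lib.DihedralRecog.dihedral_of_generators (by positivity) x g hn hgg hxs hns hcard⟩
    · right; left
      rw [hzodd q' hqo'] at hgg
      refine ⟨2 ^ n', Lib.DihedralRecog.quaternion_of_generators (by positivity) x g ?_ hgg hxs hns ?_⟩
      · rw [hn, hn', pow_succ']
      · rw [hcard, hn', pow_succ']; ring
  · right; right
    rw [hzodd q hqo] at hxs
    have hn3 : 3 ≤ n := by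
      by_contra hcon
      have h1 : n' = 1 := by omega
      apply hgy
      obtain ⟨i, hi⟩ := hN' y hy
      have h3 : g * x * g⁻¹ = x := by
        rw [hxs, hz, h1, pow_one, pow_two, mul_inv_cancel_right]
      rw [hi, ← MulAut.conj_apply, map_zpow, MulAut.conj_apply, h3]
    have hxw : x ^ (2 ^ (n - 1) - 1) = z * x⁻¹ := by
      rw [hn', Nat.add_sub_cancel, hz, eq_mul_inv_iff_mul_eq, ← pow_succ, Nat.sub_add_cancel]
      exact Nat.one_le_two_pow
    have hzx : z * x⁻¹ = x⁻¹ * z := hcomm _ hzN _ (N.inv_mem hx)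
    refine ⟨n, hn3, by rw [hcard, pow_succ'], x, ?_⟩
    rcases Int.even_or_odd q' with hqe' | hqo'
    · rw [hzev q' hqe'] at hgg
      refine ⟨g, hn, ?_, by rw [hxw, hxs]⟩
      exact orderOf_eq_prime (by rw [pow_two]; exact hgg) (fun h => hgN (h ▸ N.one_mem))
    · rw [hzodd q' hqo'] at hgg
      refine ⟨x * g, hn, ?_, ?_⟩
      · refine orderOf_eq_prime ?_ (fun h => hgN ?_)
        · rw [pow_two]
          have h1 : x * g * (x * g) = x * (g * x * g⁻¹) * (g * g) := by group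
          rw [h1, hxs, hgg, hzx, mul_inv_cancel_left, hzz]
        · have h1 : g = x⁻¹ := by
            rw [eq_comm, inv_eq_iff_mul_eq_one]; exact h
          rw [h1]; exact N.inv_mem hx
      · have h1 : x * g * x * (x * g)⁻¹ = x * (g * x * g⁻¹) * x⁻¹ := by group
        rw [h1, hxs, hxw, hzx, mul_inv_cancel_left]
        exact hzx

omit [Finite T] in
/-- In the quotient by `N`. -/
theorem mem_or_of_sq (N : Subgroup T) [hN : N.Normal] [Finite (T ⧸ N)] [IsCyclic (T ⧸ N)] {a b : T}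
    (ha : a * a ∈ N) (hb : b * b ∈ N) (hb1 : b ∉ N) : a ∈ N ∨ b⁻¹ * a ∈ N := by
  have ha' : (a : T ⧸ N) * (a : T ⧸ N) = 1 := by
    rw [← QuotientGroup.mk_mul]; exact (QuotientGroup.eq_one_iff _).2 ha
  have hb' : (b : T ⧸ N) * (b : T ⧸ N) = 1 := by
    rw [← QuotientGroup.mk_mul]; exact (QuotientGroup.eq_one_iff _).2 hb
  have hb1' : (b : T ⧸ N) ≠ 1 := fun h => hb1 ((QuotientGroup.eq_one_iff _).1 h)
  rcases cyc_sq ha' hb' hb1' with h | h
  · exact Or.inl ((QuotientGroup.eq_one_iff _).1 h)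
  · exact Or.inr (QuotientGroup.eq.1 h.symm)

omit [Finite T] in
/-- Elements of square one of a cyclic subgroup. -/
theorem sq_of_cyclic (N : Subgroup T) [Finite N] [IsCyclic N] {a b : T} (haN : a ∈ N) (hbN : b ∈ N)
    (ha : a * a = 1) (hb : b * b = 1) (hb1 : b ≠ 1) : a = 1 ∨ a = b := by
  rcases cyc_sq (a := (⟨a, haN⟩ : N)) (b := ⟨b, hbN⟩) (Subtype.ext ha) (Subtype.ext hb)
    (fun h => hb1 (congrArg Subtype.val h)) with h | h
  · exact Or.inl (congrArg Subtype.val h)
  · exact Or.inr (congrArg Subtype.val h)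

theorem square_one_aux (h2 : IsPGroup 2 T) (N : Subgroup T) [hN : N.Normal] [IsCyclic N]
    [IsCyclic (T ⧸ N)]
    (hB : ∀ y ∈ N, ∀ g : T, y ^ 4 = 1 → g * g ∈ N → g * y * g⁻¹ = y)
    {z e : T} (hz : z ∈ N) (he : e ∉ N) (hz1 : z ≠ 1) (hzz : z * z = 1) (hee : e * e = 1)
    {g : T} (hg : g * g = 1) : g = 1 ∨ g = z ∨ g = e ∨ g = z * e := by
  rcases mem_or_of_sq N (a := g) (b := e) (by rw [hg]; exact N.one_mem)
    (by rw [hee]; exact N.one_mem) he with h | h
  · rcases sq_of_cyclic N h hz hg hzz hz1 with h1 | h1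
    · exact Or.inl h1
    · exact Or.inr (Or.inl h1)
  · -- `g = c e`
    set c := g * e with hc
    have hei : e⁻¹ = e := inv_eq_of_mul_eq_one_left hee
    have hcN : c ∈ N := by
      have h1 := hN.conj_mem _ h e
      rw [mul_inv_cancel_left, hei] at h1
      exact h1
    have hgc : g = c * e := by rw [hc, mul_assoc, hee, mul_one]
    have hinv : e * c * e⁻¹ = c⁻¹ := by
      rw [eq_inv_iff_mul_eq_one, hei, hc]
      have h1 : e * (g * e) * e * (g * e) = e * (g * (e * e) * g) * e := by group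
      rw [h1, hee, mul_one, hg, mul_one, hee]
    have hcc : c * c = 1 := by
      obtain ⟨j, hj⟩ := (IsPGroup.iff_orderOf.1 h2) c
      rcases Nat.lt_or_ge j 2 with hlt | hge
      · rw [← pow_two]
        apply orderOf_dvd_iff_pow_eq_one.1
        rw [hj]
        have : j ≤ 1 := by omega
        exact (pow_dvd_pow 2 this).trans (by norm_num)
      · obtain ⟨i, hi⟩ : ∃ i, j = i + 2 := ⟨j - 2, by omega⟩
        exfalso
        have hy4 : (c ^ 2 ^ i) ^ 4 = 1 := by
          rw [← pow_mul]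
          have : 2 ^ i * 4 = 2 ^ j := by rw [hi, pow_add]; norm_num
          rw [this, ← hj, pow_orderOf_eq_one]
        have h1 := hB (c ^ 2 ^ i) (N.pow_mem hcN _) e hy4 (by rw [hee]; exact N.one_mem)
        rw [← conj_pow, hinv, inv_pow] at h1
        have h3 : c ^ 2 ^ (i + 1) = 1 := by
          rw [pow_succ, pow_mul, pow_two]
          nth_rewrite 1 [← h1]
          exact inv_mul_cancel _
        have h4 : orderOf c ∣ 2 ^ (i + 1) := orderOf_dvd_of_pow_eq_one h3
        rw [hj, Nat.pow_dvd_pow_iff_le_right (by norm_num)] at h4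
        omega
    rcases sq_of_cyclic N hcN hz hcc hzz hz1 with h1 | h1
    · right; right; left; rw [hgc, h1, one_mul]
    · right; right; right; rw [hgc, h1]

/-- Outside the dihedral, quaternion and semidihedral cases, a four-group of a metacyclic 2-group contains all
elements of square one. -/
theorem square_one_mem (h2 : IsPGroup 2 T) (N : Subgroup T) [hN : N.Normal] [IsCyclic N]
    [IsCyclic (T ⧸ N)]
    (hB : ∀ y ∈ N, ∀ g : T, y ^ 4 = 1 → g * g ∈ N → g * y * g⁻¹ = y)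
    {a b : T} (ha : a * a = 1) (hb : b * b = 1) (ha1 : a ≠ 1) (hb1 : b ≠ 1) (hab : a ≠ b)
    (hc : a * b = b * a) {g : T} (hg : g * g = 1) : g = 1 ∨ g = a ∨ g = b ∨ g = a * b := by
  have hbi : b⁻¹ = b := inv_eq_of_mul_eq_one_left hb
  by_cases hbN : b ∈ N
  · by_cases haN : a ∈ N
    · rcases sq_of_cyclic N haN hbN ha hb hb1 with h | h
      · exact absurd h ha1
      · exact absurd h hab
    · rcases square_one_aux h2 N hB hbN haN hb1 hb ha hg with h | h | h | h
      · exact Or.inl h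
      · exact Or.inr (Or.inr (Or.inl h))
      · exact Or.inr (Or.inl h)
      · exact Or.inr (Or.inr (Or.inr (by rw [h, hc])))
  · rcases mem_or_of_sq N (a := a) (b := b) (by rw [ha]; exact N.one_mem)
      (by rw [hb]; exact N.one_mem) hbN with haN | h
    · exact square_one_aux h2 N hB haN hbN ha1 ha hb hg
    · have hz1 : b⁻¹ * a ≠ 1 := fun h => hab (inv_mul_eq_one.1 h).symm
      have hzz : b⁻¹ * a * (b⁻¹ * a) = 1 := by
        rw [hbi]
        have : b * a * (b * a) = b * (a * b) * a := by group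
        rw [this, hc, ← mul_assoc, hb, one_mul, ha]
      rcases square_one_aux h2 N hB h hbN hz1 hzz hb hg with h | h | h | h
      · exact Or.inl h
      · exact Or.inr (Or.inr (Or.inr (by rw [h, hbi, hc])))
      · exact Or.inr (Or.inr (Or.inl h))
      · refine Or.inr (Or.inl ?_)
        rw [h, mul_assoc, hc, inv_mul_cancel_left]

end Cfsg.Agent.H745.MetaTwo
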