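import Cfsg.Agent.H856.Bridge
import Cfsg.Agent.H856.SylowThree
import Cfsg.Agent.H856.ToHyp
import Cfsg.Agent.H337.JankoOfIso
import Cfsg.Agent.H773.RvDefs

/-!
# The 3-fusion system of `J₄`: `N_G(T)/C_G(T)` has order 144 (for S5207, helper745)
-/

set_option autoImplicit false
set_option linter.unusedSectionVars false

namespace Cfsg.Agent.H745.RvJ4

open Subgroup Cfsg Cfsg.Agent.J4Type Cfsg.Agent.J4Type.CocodeMask Cfsg.Agent.J4Type.POuter
open Cfsg.Agent.H856 Cfsg.Agent.H856.ThreeM24 Cfsg.Agent.H856.ThreeRho Cfsg.Agent.H856.CentRho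
open Cfsg.Agent.H856.SylowThree

/-- Sylow 3-subgroups of `M22 : 2` are self-centralizing -/
theorem cent_sylow (R : Sylow 3 M22d) {c : M22d} (hc : ∀ x ∈ (R : Subgroup M22d), c * x = x * c) :
    c ∈ (R : Subgroup M22d) := by
  have h3 : Fact (Nat.Prime 3) := ⟨Nat.prime_three⟩
  obtain ⟨g, hg⟩ := MulAction.exists_smul_eq M22d R NormT.TS
  have hmem : ∀ x, x ∈ (R : Subgroup M22d) ↔ g * x * g⁻¹ ∈ (NormT.T : Subgroup M22d) := by
    intro x
    have h1 : ((g • R : Sylow 3 M22d) : Subgroup M22d) = NormT.T := by rw [hg]; rfl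
    rw [← h1, Sylow.coe_subgroup_smul]
    constructor
    · intro hx
      exact ⟨x, hx, rfl⟩
    · rintro ⟨y, hy, hyx⟩
      have h2 : g * y * g⁻¹ = g * x * g⁻¹ := hyx
      rw [← mul_left_cancel (mul_right_cancel h2)]
      exact hy
  rw [hmem]
  have h2 : g * c * g⁻¹ ∈ centralizer (NormT.T : Set M22d) := by
    intro y hy
    have h3 : g⁻¹ * y * g ∈ (R : Subgroup M22d) := by
      rw [hmem]
      have : g * (g⁻¹ * y * g) * g⁻¹ = y := by group
      rw [this]
      exact hy
    have h4 := hc _ h3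
    calc y * (g * c * g⁻¹) = g * ((g⁻¹ * y * g) * c) * g⁻¹ := by group
      _ = g * (c * (g⁻¹ * y * g)) * g⁻¹ := by rw [h4]
      _ = _ := by group
  rwa [NormT.centralizer_T] at h2

variable {K : Type*} [Group K] (F : J4Type.Compl K) [Finite K] [Fact (Nat.Prime 3)]

theorem cent_R1 : centralizer (R1 F : Set K) = zpowers (F.z * F.ρ) := by
  apply le_antisymm
  · intro c hc
    have hcN : c ∈ normalizer (R1 F : Set K) := centralizer_le_normalizer _ hc
    have hcC : c ∈ centralizer ({F.z} : Set K) := norm_R1 F hcN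
    -- the image is in the image of `R1`
    have h9 : Nat.card ((RC F : Subgroup (centralizer ({F.z} : Set K))).map (Pd F)) =
        3 ^ Nat.factorization (Nat.card M22d) 3 := by
      rw [card_map, NormT.card_D]
      have h : Nat.factorization 887040 3 = 2 := by
        rw [Nat.factorization_def _ Nat.prime_three]
        have h1 : (887040 : ℕ) = 3 ^ 2 * 98560 := by norm_num
        rw [h1, padicValNat.mul (by norm_num) (by norm_num), padicValNat.prime_pow,
          padicValNat.eq_zero_of_not_dvd (by norm_num)]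
      rw [h]
      norm_num
    have h1 : Pd F ⟨c, hcC⟩ ∈ ((RC F : Subgroup (centralizer ({F.z} : Set K))).map (Pd F)) := by
      refine cent_sylow (Sylow.ofCard _ h9) ?_
      rintro _ ⟨x, hx, rfl⟩
      have hx' : (x : K) ∈ R1 F := by
        have hx2 : x ∈ (RC F : Subgroup (centralizer ({F.z} : Set K))) := hx
        rwa [RC_coe] at hx2
      rw [← map_mul, ← map_mul]
      congr 1
      exact Subtype.ext (hc _ hx').symm
    obtain ⟨r, hr, hrc⟩ := h1
    have hr' : (r : K) ∈ R1 F := by
      have hx2 : r ∈ (RC F : Subgroup (centralizer ({F.z} : Set K))) := hr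
      rwa [RC_coe] at hx2
    set k : centralizer ({F.z} : Set K) := r⁻¹ * ⟨c, hcC⟩ with hk
    have hkN : (k : K) ∈ normalizer (R1 F : Set K) := mul_mem (inv_mem (le_normalizer hr')) hcN
    have hP : F.P k = 1 := by
      have h2 : Pd F k = 1 := by rw [hk, map_mul, map_inv, hrc, inv_mul_cancel]
      exact congrArg Subtype.val h2
    have h2 := (ker_norm F hkN).1 hP
    have h3 : (k : K) ∈ centralizer (R1 F : Set K) := by
      have hle : zpowers (F.z * F.ρ) ≤ centralizer (R1 F : Set K) := by
        rw [zpowers_le]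
        intro y hy
        have e1 : F.z * y = y * F.z := (mem_centralizer_singleton_iff.1 (R1_le F hy)).symm
        have e2 : F.ρ * y = y * F.ρ := by
          have h4 : F.ρ ∈ zpowers (F.φ w0) := by rw [zp_w0]; exact mem_zpowers _
          obtain ⟨n, hn⟩ := h4
          simp only at hn
          rw [← hn]
          exact ((show Commute (F.φ w0) y from Heis.w_comm (rel F) hy).zpow_left n).eq
        rw [mul_assoc, e2, ← mul_assoc, ← mul_assoc, e1]
      exact hle h2
    have h4 : (r : K) ∈ zpowers F.ρ := by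
      rw [← zp_w0]
      refine Heis.center_le (rel F) hr' ?_
      intro x hx
      have h5 : (r : K) = c * (k : K)⁻¹ := by
        rw [hk]
        change (r : K) = c * ((r : K)⁻¹ * c)⁻¹
        group
      have h6 : (r : K) ∈ centralizer (R1 F : Set K) := by
        rw [h5]
        exact mul_mem hc (inv_mem h3)
      exact (h6 x hx).symm
    have h5 : zpowers F.ρ ≤ zpowers (F.z * F.ρ) := by
      rw [zpowers_le]
      have h := pow_mem (mem_zpowers (F.z * F.ρ)) 4
      have hz4 : (F.z * F.ρ) ^ 4 = F.ρ := by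
        have h : Commute F.z F.ρ := F.ρ_comm.symm
        rw [h.mul_pow, pow_succ F.ρ 3, rho3, one_mul, show (4 : ℕ) = 2 + 2 by norm_num, pow_add, pow_two, zz, one_mul,
          one_mul]
      rwa [hz4] at h
    have h6 : c = (r : K) * (k : K) := by
      rw [hk]
      change c = (r : K) * ((r : K)⁻¹ * c)
      group
    rw [h6]
    exact mul_mem (h5 h4) h2
  · rw [zpowers_le]
    intro y hy
    have e1 : F.z * y = y * F.z := (mem_centralizer_singleton_iff.1 (R1_le F hy)).symm
    have e2 : F.ρ * y = y * F.ρ := by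
      have h4 : F.ρ ∈ zpowers (F.φ w0) := by rw [zp_w0]; exact mem_zpowers _
      obtain ⟨n, hn⟩ := h4
      simp only at hn
      rw [← hn]
      exact ((show Commute (F.φ w0) y from Heis.w_comm (rel F) hy).zpow_left n).eq
    rw [mul_assoc, e2, ← mul_assoc, ← mul_assoc, e1]

theorem card_cent_R1 : Nat.card (centralizer (R1 F : Set K)) = 6 := by
  rw [cent_R1, Nat.card_zpowers, orderOf_zrho]

omit [Fact (Nat.Prime 3)] in
include F in
theorem target_of : ∃ T : Sylow 3 K, Nat.card T = 27 ∧ (∀ x ∈ (T : Subgroup K), x ^ 3 = 1) ∧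
    Cfsg.Agent.H773.Rv.Three (T : Subgroup K) ∧ Nat.card (normalizer ((T : Subgroup K) : Set K)) =
      144 * Nat.card (centralizer ((T : Subgroup K) : Set K)) := by
  have h3 : Fact (Nat.Prime 3) := ⟨Nat.prime_three⟩
  obtain ⟨T, hT⟩ := exists_sylow F
  refine ⟨T, ?_, ?_, ?_, ?_⟩
  · rw [hT, card_R1]
  · rw [hT]
    exact fun x hx => cube_R1 F hx
  · rw [hT]
    obtain ⟨a, ha, b, hb, hab⟩ := not_comm_R1 F
    refine ⟨a, ha, b, hb, a * b, mul_mem ha hb, hab, ?_, ?_, ?_⟩
    · intro h
      apply hab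
      rw [← mul_assoc] at h
      exact (mul_right_cancel h).symm
    · intro h
      rw [mul_assoc] at h
      exact hab (mul_left_cancel h)
    · have key : ∀ x ∈ R1 F, x ≠ 1 → orderOf x = 3 := fun x hx h1 => orderOf_eq_prime (cube_R1 F hx) h1
      intro x hx
      have hxR : x ∈ R1 F := by
        simp only [Set.mem_insert_iff, Set.mem_singleton_iff] at hx
        rcases hx with rfl | rfl | rfl
        · exact ha
        · exact hb
        · exact mul_mem ha hb
      have hx1 : x ≠ 1 := by
        simp only [Set.mem_insert_iff, Set.mem_singleton_iff] at hx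
        rintro rfl
        rcases hx with h | h | h
        · apply hab; rw [← h, one_mul, mul_one]
        · apply hab; rw [← h, one_mul, mul_one]
        · apply hab
          have : b = a⁻¹ := (inv_eq_of_mul_eq_one_right h.symm).symm
          rw [this, inv_mul_cancel, mul_inv_cancel]
      refine ⟨F.ρ, rho_mem F, ?_, ?_⟩
      · intro s hs
        have h4 : F.ρ ∈ zpowers (F.φ w0) := by rw [zp_w0]; exact mem_zpowers _
        obtain ⟨n, hn⟩ := h4
        simp only at hn
        rw [← hn]
        exact ((show Commute (F.φ w0) s from Heis.w_comm (rel F) hs).zpow_left n).eq.symm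
      · exact one_class F (key x hxR hx1) F.ρ_order
  · rw [hT, card_norm_R1, card_cent_R1]

/-- **`J₄`**: `Aut_G(T)` has order 144. -/
theorem target : Cfsg.Agent.H773.Rv.TargetP3 144 := by
  have hs : IsSimpleGroup Cfsg.Spor.J4 := Cfsg.Agent.S1703.result.1
  have hfin : Finite Cfsg.Spor.J4 := by
    apply Nat.finite_of_card_ne_zero
    rw [Cfsg.Agent.S1703.result.2]
    norm_num
  obtain ⟨z, P, h⟩ := H337.isOfJankoFourType_of_isoJ4 (G := Cfsg.Spor.J4) ⟨MulEquiv.refl _⟩
  obtain ⟨Q, N, M, H, -, -⟩ := Cfsg.Agent.H856.ToHyp.exists_hyp h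
  obtain ⟨C, -, -, -⟩ := Cfsg.Agent.H856.Bridge.exists_compl_of_hyp H
  obtain ⟨T, h1, h2, h3, h4⟩ := target_of C
  exact ⟨Cfsg.Spor.J4, inferInstance, hfin, T, h1, h2, h3, h4⟩

end Cfsg.Agent.H745.RvJ4
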