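import Cfsg.Agent.H845.TitsQ
import Cfsg.Agent.H20.FrobTits
import Cfsg.Agent.H87.TitsData
import Cfsg.Agent.CpAutTits.Row
import Cfsg.Agent.H500.ExtraCube
import Cfsg.Agent.H773.RvDefs

/-!
# The 3-fusion system of the Tits group: `N_G(T)/C_G(T)` has order 72 (for S5207, helper745)
-/

set_option autoImplicit false
set_option linter.style.haveILetI false
set_option linter.unusedSectionVars false

universe u

namespace Cfsg.Agent.H745.RvTits

open Subgroup Cfsg.Agent.H20.FrobTools

/-! ### the centralizer of an element of order 3 -/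

section cent

open Cfsg.Agent.H20.FrobTits

variable {G : Type u} [Group G] [Finite G] (D : H87.TitsAbs.Dat G) (O : CpAutTits.Row.Out G)

include D O

theorem index_R : D.R.index = 2 ^ 11 * 5 ^ 2 * 13 := by
  have h := D.R.card_mul_index
  rw [D.card_R, O.card] at h
  omega

omit [Finite G] O in
theorem t3 : orderOf D.t = 3 := by
  haveI : Fact (Nat.Prime 3) := ⟨by norm_num⟩
  exact orderOf_eq_prime D.t3 D.t1

/-- the 3-elements are conjugate to `t` -/
theorem isConj_t {y : G} {b : ℕ} (hy : y ^ 3 ^ b = 1) (hy1 : y ≠ 1) : IsConj y D.t := by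
  obtain ⟨g, hg⟩ := exists_conj_mem (a := 3) Nat.prime_three (R := D.R) (by rw [D.card_R]; norm_num)
    (by rw [index_R D O]; norm_num) hy
  have h1 := D.R_isConj hg (fun h => hy1 (conj_eq_one_iff.1 h))
  exact (isConj_iff.2 ⟨g, rfl⟩).trans h1

theorem cube {y : G} {b : ℕ} (hy : y ^ 3 ^ b = 1) : y ^ 3 = 1 := by
  by_cases hy1 : y = 1
  · rw [hy1, one_pow]
  · obtain ⟨g, hg⟩ := isConj_iff.1 (isConj_t D O hy hy1)
    have h1 := D.t3
    rw [← hg, conj_pow] at h1
    exact conj_eq_one_iff.1 h1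

theorem dvd_class : 27 ∣ (centralizer ({D.t} : Set G)).index + 1 := by
  have h1 := Cfsg.Agent.H20.FrobReduce.dvd_cnt (G := G) (n := 27) (by rw [O.card]; norm_num)
  have h2 : Cfsg.Agent.H20.FrobReduce.cnt G 27 = (centralizer ({D.t} : Set G)).index + 1 := by
    rw [← TData.card_class, ← Finite.card_option]
    unfold Cfsg.Agent.H20.FrobReduce.cnt
    symm
    have ht1 : D.t ^ 27 = 1 := by
      rw [← orderOf_dvd_iff_pow_eq_one, t3 D]
      norm_num
    refine Nat.card_eq_of_bijective (fun o : Option {z : G // IsConj D.t z} => match o with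
      | none => (⟨1, one_pow 27⟩ : {x : G // x ^ 27 = 1})
      | some z => ⟨z, by
          obtain ⟨c, hc⟩ := isConj_iff.1 z.2
          rw [← hc, conj_pow, ht1, mul_one, mul_inv_cancel]⟩) ⟨?_, ?_⟩
    · have hne : ∀ z : {z : G // IsConj D.t z}, (z : G) ≠ 1 := by
        rintro ⟨z, hz⟩ rfl
        rw [isConj_comm, isConj_one_right] at hz
        have := t3 D
        rw [hz, orderOf_one] at this
        omega
      rintro (_ | y) (_ | z) he
      · rfl
      · exact absurd (congrArg Subtype.val he).symm (hne z)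
      · exact absurd (congrArg Subtype.val he) (hne y)
      · have : (y : G) = z := congrArg (fun w : {x : G // x ^ 27 = 1} => (w : G)) he
        rw [Subtype.ext this]
    · rintro ⟨z, hz⟩
      by_cases hz1 : z = 1
      · subst hz1
        exact ⟨none, rfl⟩
      · refine ⟨some ⟨z, ?_⟩, rfl⟩
        exact (isConj_t D O (b := 3) (by rw [← hz]; norm_num) hz1).symm
  rwa [h2] at h1

theorem cent_dvd : 27 ∣ Nat.card (centralizer ({D.t} : Set G)) := by
  have h2 : Fact (Nat.Prime 3) := ⟨Nat.prime_three⟩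
  have hP : IsPGroup 3 D.R := IsPGroup.of_card (n := 3) (by rw [D.card_R]; norm_num)
  have hn : Nontrivial D.R := by
    rw [← Finite.one_lt_card_iff_nontrivial, D.card_R]
    norm_num
  have h3 := hP.center_nontrivial
  obtain ⟨z, hz⟩ := exists_ne (1 : center D.R)
  have hz1 : ((z : D.R) : G) ≠ 1 := by
    intro h
    apply hz
    exact Subtype.ext (Subtype.ext h)
  have hle : D.R ≤ centralizer ({((z : D.R) : G)} : Set G) := by
    intro r hr
    rw [mem_cent]
    have := mem_center_iff.1 z.2 ⟨r, hr⟩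
    exact congrArg Subtype.val this
  obtain ⟨c, hc⟩ := isConj_iff.1 (D.R_isConj (z : D.R).2 hz1)
  have h4 : Nat.card (centralizer ({((z : D.R) : G)} : Set G)) = Nat.card (centralizer ({D.t} : Set G)) := by
    rw [card_centralizer_congr (MulAut.conj c)]
    have : (MulAut.conj c) ((z : D.R) : G) = D.t := hc
    rw [this]
  rw [← h4, ← D.card_R]
  exact card_dvd_of_le hle

theorem not_five_dvd : ¬ 5 ∣ Nat.card (centralizer ({D.t} : Set G)) := by
  intro h
  have : Fact (Nat.Prime 5) := ⟨by norm_num⟩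
  obtain ⟨y, hy⟩ := exists_prime_orderOf_dvd_card' (G := centralizer ({D.t} : Set G)) 5 h
  have hy' : orderOf (y : G) = 5 := by rw [orderOf_coe, hy]
  exact O.ncomm _ _ (t3 D) hy' (mem_cent.1 y.2).symm

theorem card_cent_t : Nat.card (centralizer ({D.t} : Set G)) = 108 := by
  obtain ⟨c, hc⟩ := cent_dvd D O
  have h5 := not_five_dvd D O
  have h1 := (centralizer ({D.t} : Set G)).card_mul_index
  have h2 := dvd_class D O
  rw [hc, O.card] at h1
  rw [hc] at h5 ⊢
  set i := (centralizer ({D.t} : Set G)).index with hi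
  have h5' : ¬ 5 ∣ c := fun h => h5 (h.mul_left 27)
  have h3 : c * i = 25 * (2 ^ 11 * 13) := by
    have : 27 * (c * i) = 27 * (25 * (2 ^ 11 * 13)) := by
      rw [← mul_assoc, h1]
      norm_num
    omega
  have hcop : Nat.Coprime c 25 := by
    have : Nat.Coprime c (5 ^ 2) := Nat.Coprime.pow_right _ (Nat.coprime_comm.1
      ((Nat.Prime.coprime_iff_not_dvd (by norm_num)).2 h5'))
    simpa using this
  have h4 : c ∣ 2 ^ 11 * 13 := hcop.dvd_of_dvd_mul_left ⟨i, h3.symm⟩
  obtain ⟨a, b, ha, hb, rfl⟩ := (Nat.dvd_mul).1 h4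
  obtain ⟨a', ha', rfl⟩ := (Nat.dvd_prime_pow Nat.prime_two).1 ha
  rcases (Nat.dvd_prime (by norm_num)).1 hb with rfl | rfl
  · interval_cases a' <;> omega
  · interval_cases a' <;> omega

theorem card_cent_of {z : G} (hz : z ^ 3 = 1) (hz1 : z ≠ 1) : Nat.card (centralizer ({z} : Set G)) = 108 := by
  obtain ⟨c, hc⟩ := isConj_iff.1 (isConj_t D O (b := 1) (by simpa using hz) hz1)
  rw [card_centralizer_congr (MulAut.conj c)]
  have : (MulAut.conj c) z = D.t := hc
  rw [this, card_cent_t D O]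

end cent

/-- the data: `R = ⟨u, r, z⟩` extraspecial of order 27, `g` of order 4 commutes with `z` and normalises `R`, `e` inverts
`z` and normalises `R`. -/
structure TT (G : Type u) [Group G] where
  u : G
  z : G
  r : G
  g : G
  e : G
  p3 : IsPGroup 3 (closure {u, r, z} : Subgroup G)
  z1 : z ≠ 1
  u1 : u ≠ 1
  u3 : u ^ 3 = 1
  z3 : z ^ 3 = 1
  r3 : r ^ 3 = 1
  zu : z * u = u * z
  zr : z * r = r * z
  ru : r * u = z * (u * r)
  g4 : g ^ 4 = 1
  gz : g * z = z * g
  gu : g * u = r ^ 2 * g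
  gr : g * r = u * g
  ez : e * z = z ^ 2 * e
  eu : e * u = r * e
  er : e * r = u * e

namespace TT

variable {G : Type u} [Group G] (D : TT G)

/-- the subgroup of order 27 -/
def R : Subgroup G := closure {D.u, D.r, D.z}

theorem uR : D.u ∈ D.R := subset_closure (by simp)

theorem rR : D.r ∈ D.R := subset_closure (by simp)

theorem zR : D.z ∈ D.R := subset_closure (by simp)

theorem ru_ne : D.r * D.u ≠ D.u * D.r := by
  intro h
  apply D.z1
  have := D.ru
  rw [h] at this
  exact (mul_eq_right.1 this.symm)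

theorem norm_of [Finite G] {y : G} (h1 : y * D.u * y⁻¹ ∈ D.R) (h2 : y * D.r * y⁻¹ ∈ D.R) (h3 : y * D.z * y⁻¹ ∈ D.R) :
    y ∈ normalizer (D.R : Set G) := by
  haveI := Fintype.ofFinite D.R
  haveI : Fintype (D.R : Set G) := ‹Fintype D.R›
  have h : D.R ≤ D.R.comap (MulAut.conj y).toMonoidHom := by
    conv_lhs => unfold R
    rw [closure_le]
    rintro w hw
    simp only [Set.mem_insert_iff, Set.mem_singleton_iff] at hw
    rcases hw with rfl | rfl | rfl
    · exact h1
    · exact h2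
    · exact h3
  exact mem_normalizer_fintype fun w hw => h hw

theorem gN [Finite G] : D.g ∈ normalizer (D.R : Set G) := by
  apply D.norm_of
  · rw [D.gu, mul_inv_cancel_right]; exact pow_mem D.rR 2
  · rw [D.gr, mul_inv_cancel_right]; exact D.uR
  · rw [D.gz, mul_inv_cancel_right]; exact D.zR

theorem eN [Finite G] : D.e ∈ normalizer (D.R : Set G) := by
  apply D.norm_of
  · rw [D.eu, mul_inv_cancel_right]; exact D.rR
  · rw [D.er, mul_inv_cancel_right]; exact D.uR
  · rw [D.ez, mul_inv_cancel_right]; exact pow_mem D.zR 2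

theorem z_comm {x : G} (hx : x ∈ D.R) : x * D.z = D.z * x := by
  have h : D.R ≤ centralizer ({D.z} : Set G) := by
    conv_lhs => unfold R
    rw [closure_le]
    rintro w hw
    simp only [Set.mem_insert_iff, Set.mem_singleton_iff] at hw
    rcases hw with rfl | rfl | rfl
    · exact mem_cent.2 D.zu.symm
    · exact mem_cent.2 D.zr.symm
    · exact mem_cent.2 rfl
  exact mem_cent.1 (h hx)

/-- `g²` inverts `u` -/
theorem g2u : D.g ^ 2 * D.u = D.u ^ 2 * D.g ^ 2 := by
  have h1 : D.g * D.r * D.g⁻¹ = D.u := by rw [D.gr, mul_inv_cancel_right]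
  have h2 : D.g * D.u * D.g⁻¹ = D.r ^ 2 := by rw [D.gu, mul_inv_cancel_right]
  have h3 : D.g ^ 2 * D.u * (D.g ^ 2)⁻¹ = D.u ^ 2 := by
    have : D.g ^ 2 * D.u * (D.g ^ 2)⁻¹ = D.g * (D.g * D.u * D.g⁻¹) * D.g⁻¹ := by
      rw [pow_two]; group
    rw [this, h2, ← conj_pow, h1]
  rw [← h3, inv_mul_cancel_right]

theorem u2_ne : D.u ^ 2 ≠ D.u := by
  intro h
  rw [pow_two] at h
  exact D.u1 (mul_eq_left.1 h)

theorem g2_not : D.g ^ 2 * D.u ≠ D.u * D.g ^ 2 := by
  intro h
  rw [D.g2u] at h
  exact D.u2_ne (mul_right_cancel h)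

theorem g2_ne : D.g ^ 2 ≠ 1 := by
  intro h
  apply D.g2_not
  rw [h, one_mul, mul_one]

theorem order_g : orderOf D.g = 4 := by
  haveI : Fact (Nat.Prime 2) := ⟨Nat.prime_two⟩
  have := orderOf_eq_prime_pow (p := 2) (n := 1) (x := D.g) (by norm_num; exact D.g2_ne) (by norm_num; exact D.g4)
  simpa using this

variable [Finite G] (hG : Nat.card G = 2 ^ 11 * 3 ^ 3 * 5 ^ 2 * 13)

include hG

theorem card_R : Nat.card D.R = 27 := by
  haveI : Fact (Nat.Prime 3) := ⟨by norm_num⟩
  obtain ⟨n, hn⟩ := IsPGroup.iff_card.1 D.p3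
  change Nat.card D.R = 3 ^ n at hn
  have h1 : 3 ^ n ∣ 2 ^ 11 * 3 ^ 3 * 5 ^ 2 * 13 := by
    rw [← hG, ← hn]
    exact card_subgroup_dvd_card _
  have h2 : n ≤ 3 := by
    by_contra h
    have h3 : 3 ^ 4 ∣ 3 ^ n := pow_dvd_pow 3 (by omega)
    have := h3.trans h1
    revert this
    norm_num
  have hnc : ¬ ∀ a b : D.R, a * b = b * a := by
    intro h
    have := h ⟨D.r, D.rR⟩ ⟨D.u, D.uR⟩
    exact D.ru_ne (congrArg Subtype.val this)
  have h4 : 2 < n := by
    by_contra h
    apply hnc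
    have h5 : n = 0 ∨ n = 1 ∨ n = 2 := by omega
    rcases h5 with h5 | h5 | h5
    · subst h5
      have : Subsingleton D.R := (Nat.card_eq_one_iff_unique.1 (by rw [hn]; norm_num)).1
      intro a b
      exact Subsingleton.elim _ _
    · subst h5
      haveI : IsCyclic D.R := isCyclic_of_prime_card (p := 3) (by rw [hn]; norm_num)
      haveI : IsMulCommutative D.R := IsCyclic.isMulCommutative
      exact fun a b => IsMulCommutative.is_comm.comm a b
    · subst h5
      have := IsPGroup.isMulCommutative_of_card_eq_prime_sq hn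
      exact fun a b => this.is_comm.comm a b
  have h5 : n = 3 := by omega
  rw [hn, h5]
  norm_num

/-- `R` as a Sylow 3-subgroup -/
noncomputable def T : Sylow 3 G :=
  Sylow.ofCard D.R (by
    haveI : Fact (Nat.Prime 3) := ⟨by norm_num⟩
    have hf : (Nat.card G).factorization 3 = 3 := by
      rw [hG]
      have h0 : (2 ^ 11 * 3 ^ 3 * 5 ^ 2 * 13 : ℕ) ≠ 0 := by norm_num
      apply le_antisymm
      · by_contra hc
        have : 3 ^ 4 ∣ 2 ^ 11 * 3 ^ 3 * 5 ^ 2 * 13 :=
          ((by norm_num : Nat.Prime 3).pow_dvd_iff_le_factorization h0).2 (by omega)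
        revert this
        norm_num
      · exact ((by norm_num : Nat.Prime 3).pow_dvd_iff_le_factorization h0).1 (by norm_num)
    rw [hf, D.card_R hG]
    norm_num)


variable (hC : Nat.card (centralizer ({D.z} : Set G)) = 108)

omit hG in
theorem R_le : D.R ≤ centralizer ({D.z} : Set G) := fun _ hx => mem_cent.2 (D.z_comm hx)

omit hG in
theorem cent_le : centralizer (D.R : Set G) ≤ centralizer ({D.z} : Set G) := fun _ hx =>
  mem_cent.2 (hx _ D.zR).symm

include hC

theorem Cz_le : centralizer ({D.z} : Set G) ≤ normalizer (D.R : Set G) := by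
  have h1 : D.R ≤ centralizer ({D.z} : Set G) ⊓ normalizer (D.R : Set G) := le_inf D.R_le le_normalizer
  have h2 : 27 ∣ Nat.card (centralizer ({D.z} : Set G) ⊓ normalizer (D.R : Set G) : Subgroup G) := by
    rw [← D.card_R hG]
    exact card_dvd_of_le h1
  have h3 : 4 ∣ Nat.card (centralizer ({D.z} : Set G) ⊓ normalizer (D.R : Set G) : Subgroup G) := by
    have h := orderOf_dvd_natCard (centralizer ({D.z} : Set G) ⊓ normalizer (D.R : Set G) : Subgroup G) (x := D.g)
      ⟨mem_cent.2 D.gz, D.gN⟩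
    rwa [D.order_g] at h
  have h4 : 108 ∣ Nat.card (centralizer ({D.z} : Set G) ⊓ normalizer (D.R : Set G) : Subgroup G) :=
    (by norm_num : Nat.Coprime 27 4).mul_dvd_of_dvd_of_dvd h2 h3
  have h5 : (centralizer ({D.z} : Set G) ⊓ normalizer (D.R : Set G) : Subgroup G) = centralizer ({D.z} : Set G) := by
    apply Subgroup.eq_of_le_of_card_ge inf_le_left
    rw [hC]
    exact Nat.le_of_dvd Nat.card_pos h4
  exact inf_eq_left.1 h5

theorem not_two_dvd : ¬ 2 ∣ Nat.card (centralizer (D.R : Set G)) := by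
  intro h
  haveI : Fact (Nat.Prime 2) := ⟨Nat.prime_two⟩
  obtain ⟨i, hi⟩ := exists_prime_orderOf_dvd_card' (G := centralizer (D.R : Set G)) 2 h
  have hi2 : (i : G) ^ 2 = 1 := by
    have := pow_orderOf_eq_one i
    rw [hi] at this
    exact congrArg Subtype.val this
  have hi1 : (i : G) ≠ 1 := by
    intro h
    have : i = 1 := Subtype.ext h
    rw [this, orderOf_one] at hi
    omega
  have hgz : zpowers D.g ≤ centralizer ({D.z} : Set G) := zpowers_le.2 (mem_cent.2 D.gz)
  have hc : Nat.card ((zpowers D.g).subgroupOf (centralizer ({D.z} : Set G))) = 2 ^ 2 := by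
    rw [Nat.card_congr (subgroupOfEquivOfLe hgz).toEquiv, Nat.card_zpowers, D.order_g]
    norm_num
  have hidx : ¬ 2 ∣ ((zpowers D.g).subgroupOf (centralizer ({D.z} : Set G))).index := by
    have := ((zpowers D.g).subgroupOf (centralizer ({D.z} : Set G))).card_mul_index
    rw [hc, hC] at this
    omega
  obtain ⟨k, hk⟩ := Cfsg.Agent.H20.FrobTits.exists_conj_mem (G := centralizer ({D.z} : Set G)) Nat.prime_two hc hidx (b := 1)
    (y := ⟨i, D.cent_le i.2⟩) (Subtype.ext (by simpa using hi2))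
  rw [mem_subgroupOf] at hk
  change (k : G) * i * (k : G)⁻¹ ∈ zpowers D.g at hk
  set j := (k : G) * i * (k : G)⁻¹ with hj
  have hj2 : j ^ 2 = 1 := by rw [hj, conj_pow, hi2, mul_one, mul_inv_cancel]
  have hj1 : j ≠ 1 := by
    rw [hj]
    exact fun h => hi1 (conj_eq_one_iff.1 h)
  have hjC : j ∈ centralizer (D.R : Set G) := by
    have hkN := D.Cz_le hG hC k.2
    intro x hx
    have h1 : (k : G)⁻¹ * x * (k : G) ∈ D.R := by
      have := (mem_normalizer_iff.1 (inv_mem hkN) x).1 hx
      rwa [inv_inv] at this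
    have h2 := i.2 _ h1
    rw [hj]
    calc x * ((k : G) * i * (k : G)⁻¹) = (k : G) * (((k : G)⁻¹ * x * (k : G)) * i) * (k : G)⁻¹ := by group
      _ = (k : G) * (i * ((k : G)⁻¹ * x * (k : G))) * (k : G)⁻¹ := by rw [h2]
      _ = _ := by group
  obtain ⟨m, hm⟩ := hk
  simp only at hm
  have h4 : D.g ^ (2 * m) = 1 := by
    rw [mul_comm, zpow_mul, hm]
    exact_mod_cast hj2
  have h5 : (4 : ℤ) ∣ 2 * m := by
    have := orderOf_dvd_iff_zpow_eq_one.2 h4
    rwa [D.order_g] at this
  have h6 : j = D.g ^ 2 := by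
    have h7 : m % 4 = 0 ∨ m % 4 = 2 := by omega
    have h8 : D.g ^ m = D.g ^ (m % 4) := by
      conv_lhs => rw [← Int.emod_add_mul_ediv m 4, zpow_add, zpow_mul]
      have : D.g ^ (4 : ℤ) = 1 := by exact_mod_cast D.g4
      rw [this, one_zpow, mul_one]
    rcases h7 with h7 | h7
    · exfalso
      apply hj1
      rw [← hm, h8, h7, zpow_zero]
    · rw [← hm, h8, h7]
      exact zpow_ofNat _ _
  rw [h6] at hjC
  exact D.g2_not (hjC _ D.uR).symm

theorem cent_le_R : centralizer (D.R : Set G) ≤ D.R := by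
  haveI : Fact (Nat.Prime 3) := ⟨by norm_num⟩
  have h1 : Nat.card (centralizer (D.R : Set G)) ∣ 108 := by
    rw [← hC]
    exact card_dvd_of_le D.cent_le
  have h2 := D.not_two_dvd hG hC
  have h3 : Nat.card (centralizer (D.R : Set G)) ∣ 3 ^ 3 := by
    have h4 : Nat.Coprime (Nat.card (centralizer (D.R : Set G))) 4 := by
      have : Nat.Coprime (Nat.card (centralizer (D.R : Set G))) (2 ^ 2) :=
        Nat.Coprime.pow_right _ (Nat.coprime_comm.1 ((Nat.Prime.coprime_iff_not_dvd Nat.prime_two).2 h2))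
      simpa using this
    exact h4.dvd_of_dvd_mul_left (n := 3 ^ 3) (by simpa using h1)
  have h5 : IsPGroup 3 (centralizer (D.R : Set G)) := by
    obtain ⟨n, -, hn⟩ := (Nat.dvd_prime_pow Nat.prime_three).1 h3
    exact IsPGroup.of_card hn
  have h6 : IsPGroup 3 (centralizer (D.R : Set G) ⊔ D.R : Subgroup G) :=
    IsPGroup.to_sup_of_normal_right' h5 D.p3 (centralizer_le_normalizer _)
  have h7 := (D.T hG).3 h6 (show ((D.T hG : Sylow 3 G) : Subgroup G) ≤ _ from le_sup_right)
  have h8 : (centralizer (D.R : Set G) ⊔ D.R : Subgroup G) = D.R := h7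
  exact sup_eq_right.1 h8

theorem card_cent : Nat.card (centralizer (D.R : Set G)) = 3 := by
  haveI : Fact (Nat.Prime 3) := ⟨by norm_num⟩
  have h1 := H500.card_center_cube (T := D.R) (p := 3) (by rw [D.card_R hG]; norm_num) (by
    intro h
    have := h ⟨D.r, D.rR⟩ ⟨D.u, D.uR⟩
    exact D.ru_ne (congrArg Subtype.val this))
  rw [← h1]
  have h2 : centralizer (D.R : Set G) = (center D.R).map D.R.subtype := by
    ext x
    constructor
    · intro hx
      refine ⟨⟨x, D.cent_le_R hG hC hx⟩, ?_, rfl⟩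
      rw [SetLike.mem_coe, mem_center_iff]
      intro y
      exact Subtype.ext (hx y y.2)
    · rintro ⟨y, hy, rfl⟩ w hw
      have := mem_center_iff.1 hy ⟨w, hw⟩
      exact congrArg Subtype.val this
  rw [h2, Nat.card_congr ((center D.R).equivMapOfInjective _ D.R.subtype_injective).symm.toEquiv]

theorem z_conj {x : G} (hx : x ∈ normalizer (D.R : Set G)) : x * D.z * x⁻¹ ∈ zpowers D.z := by
  haveI : Fact (Nat.Prime 3) := ⟨by norm_num⟩
  have h1 : zpowers D.z = centralizer (D.R : Set G) := by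
    apply Subgroup.eq_of_le_of_card_ge
    · rw [zpowers_le]
      intro w hw
      exact D.z_comm hw
    · rw [D.card_cent hG hC, Nat.card_zpowers, orderOf_eq_prime D.z3 D.z1]
  rw [h1]
  intro w hw
  have h2 : x⁻¹ * w * x ∈ D.R := by
    have := (mem_normalizer_iff.1 (inv_mem hx) w).1 hw
    rwa [inv_inv] at this
  have h3 := D.z_comm h2
  calc w * (x * D.z * x⁻¹) = x * ((x⁻¹ * w * x) * D.z) * x⁻¹ := by group
    _ = x * (D.z * (x⁻¹ * w * x)) * x⁻¹ := by rw [h3]
    _ = _ := by group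

theorem z_conj' {x : G} (hx : x ∈ normalizer (D.R : Set G)) : x * D.z * x⁻¹ = D.z ∨ x * D.z * x⁻¹ = D.z ^ 2 := by
  obtain ⟨m, hm⟩ := D.z_conj hG hC hx
  simp only at hm
  have h8 : D.z ^ m = D.z ^ (m % 3) := by
    conv_lhs => rw [← Int.emod_add_mul_ediv m 3, zpow_add, zpow_mul]
    have : D.z ^ (3 : ℤ) = 1 := by exact_mod_cast D.z3
    rw [this, one_zpow, mul_one]
  have h7 : m % 3 = 0 ∨ m % 3 = 1 ∨ m % 3 = 2 := by omega
  rw [← hm, h8]
  rcases h7 with h7 | h7 | h7
  · exfalso
    rw [h8, h7, zpow_zero] at hm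
    exact D.z1 (conj_eq_one_iff.1 hm.symm)
  · left; rw [h7, zpow_one]
  · right; rw [h7]; exact zpow_ofNat _ _

theorem card_norm : Nat.card (normalizer (D.R : Set G)) = 216 := by
  have hle := D.Cz_le hG hC
  set N := normalizer (D.R : Set G) with hN
  have hz2 : D.z ^ 2 ≠ D.z := by
    intro h
    rw [pow_two] at h
    exact D.z1 (mul_eq_left.1 h)
  have hez : D.e * D.z * D.e⁻¹ = D.z ^ 2 := by rw [D.ez, mul_inv_cancel_right]
  have hidx : ((centralizer ({D.z} : Set G)).subgroupOf N).index = 2 := by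
    rw [index_eq_two_iff]
    refine ⟨⟨D.e, D.eN⟩, fun b => ?_⟩
    rw [mem_subgroupOf, mem_subgroupOf, mem_cent, mem_cent]
    change Xor ((b : G) * D.e * D.z = D.z * ((b : G) * D.e)) ((b : G) * D.z = D.z * (b : G))
    rw [← mul_inv_eq_iff_eq_mul, ← mul_inv_eq_iff_eq_mul]
    have e1 : (b : G) * D.e * D.z * ((b : G) * D.e)⁻¹ = ((b : G) * D.z * (b : G)⁻¹) ^ 2 := by
      have : (b : G) * D.e * D.z * ((b : G) * D.e)⁻¹ = (b : G) * (D.e * D.z * D.e⁻¹) * (b : G)⁻¹ := by group
      rw [this, hez, conj_pow]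
    rw [e1]
    rcases D.z_conj' hG hC b.2 with h | h
    · rw [h]
      right
      exact ⟨rfl, hz2⟩
    · rw [h]
      left
      refine ⟨?_, hz2⟩
      rw [← pow_mul, show 2 * 2 = 3 + 1 from rfl, pow_add, D.z3, one_mul, pow_one]
  have h1 := ((centralizer ({D.z} : Set G)).subgroupOf N).card_mul_index
  rw [hidx, Nat.card_congr (subgroupOfEquivOfLe hle).toEquiv, hC] at h1
  omega

end TT

/-! ### the data in the Tits group -/

section data

open Cfsg.Agent.KFacts.OddLift Cfsg.Agent.KFacts.OddLift.Basic Cfsg.Agent.KFacts.OddLift.TitMat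
  Cfsg.Agent.KFacts.OddLift.TitGen
open Cfsg.Agent.SporadicRecognition.CosetCert Cfsg.Agent.SporadicRecognition.CosetCertHyp
open Cfsg.Agent.ChevalleyStructure.Tits.Pack Cfsg.Agent.ChevalleyStructure.Tits.Data
  Cfsg.Agent.ChevalleyStructure.Tits.Mat Cfsg.Agent.ChevalleyStructure.Tits.Main
  Cfsg.Agent.ChevalleyStructure.Tits.Order
open Cfsg.Agent.H87.TitsData (pw ev_pw ev_one toMat_ne)
open Cfsg.Agent.H845.TitsQData (uw rw' zw)

open scoped MatrixGroups

/-- word of `f`; `g` is its cube -/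
def fw : List ℕ := [1, 4, 7, 1, 5, 3, 0, 5, 3, 0, 7]

/-- word of `e` -/
def ew : List ℕ := [7, 2, 5, 1, 4, 1, 3, 6, 0]

/-- relations `u = v` -/
def rl : List (List ℕ × List ℕ) := [
  (pw fw 12, []), (fw ++ zw, zw ++ fw), (fw ++ uw, rw' ++ fw), (fw ++ rw', pw uw 2 ++ fw),
  (ew ++ zw, pw zw 2 ++ ew), (ew ++ uw, rw' ++ ew), (ew ++ rw', uw ++ ew)]

theorem rl_ok : rl.all (fun p => Nat.beq (evP p.1) (evP p.2)) = true := by decide +kernel

theorem rl_lt : rl.all (fun p => (p.1.all fun y => Nat.blt y 8) && p.2.all fun y => Nat.blt y 8) = true := by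
  decide +kernel

theorem rel {u v : List ℕ} (h : (u, v) ∈ rl) : ev (lt b 4) u = ev (lt b 4) v := by
  have h1 := rl_ok
  rw [List.all_eq_true] at h1
  have h2 := rl_lt
  rw [List.all_eq_true] at h2
  have h3 := h2 _ h
  rw [Bool.and_eq_true] at h3
  apply Subtype.ext
  rw [coe_ev_b, coe_ev_b]
  apply Subtype.ext
  rw [coe_ev_bH, coe_ev_bH]
  apply Units.ext
  rw [coe_ev (all_lt8 h3.1), coe_ev (all_lt8 h3.2), Nat.eq_of_beq_eq_true (h1 _ h)]

theorem conj_of_eq {G : Type*} [Group G] {a b c : G} (h : a * b = c * a) : a * b * a⁻¹ = c := by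
  rw [h, mul_inv_cancel_right]

theorem eq_of_conj {G : Type*} [Group G] {a b c : G} (h : a * b * a⁻¹ = c) : a * b = c * a := by
  rw [← h, inv_mul_cancel_right]

theorem cube_alg {G : Type*} [Group G] {f u r z : G} (u3 : u ^ 3 = 1) (h1 : f * u = r * f) (h2 : f * r = u ^ 2 * f)
    (h3 : f * z = z * f) : f ^ 3 * u = r ^ 2 * f ^ 3 ∧ f ^ 3 * r = u * f ^ 3 ∧ f ^ 3 * z = z * f ^ 3 := by
  have e1 := conj_of_eq h1
  have e2 := conj_of_eq h2
  have key : ∀ y : G, f ^ 3 * y * (f ^ 3)⁻¹ = f * (f * (f * y * f⁻¹) * f⁻¹) * f⁻¹ := fun y => by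
    rw [pow_succ, pow_two]; group
  refine ⟨eq_of_conj ?_, eq_of_conj ?_, ((show Commute f z from h3).pow_left 3).eq⟩
  · rw [key, e1, e2, ← conj_pow, e1]
  · rw [key, e2, ← conj_pow, e1, ← conj_pow, e2, ← pow_mul, show 2 * 2 = 3 + 1 from rfl, pow_add, u3, one_mul, pow_one]

theorem fu : ev (lt b 4) fw * ev (lt b 4) uw = ev (lt b 4) rw' * ev (lt b 4) fw := by
  have h := rel (u := fw ++ uw) (v := rw' ++ fw) (by simp [rl])
  rwa [ev_append, ev_append] at h

theorem fr : ev (lt b 4) fw * ev (lt b 4) rw' = ev (lt b 4) uw ^ 2 * ev (lt b 4) fw := by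
  have h := rel (u := fw ++ rw') (v := pw uw 2 ++ fw) (by simp [rl])
  rwa [ev_append, ev_append, ev_pw] at h

theorem fz : ev (lt b 4) fw * ev (lt b 4) zw = ev (lt b 4) zw * ev (lt b 4) fw := by
  have h := rel (u := fw ++ zw) (v := zw ++ fw) (by simp [rl])
  rwa [ev_append, ev_append] at h

/-- the data in the Tits group -/
noncomputable def tt : TT (_root_.commutator H0) where
  u := ev (lt b 4) uw
  z := ev (lt b 4) zw
  r := ev (lt b 4) rw'
  g := ev (lt b 4) fw ^ 3
  e := ev (lt b 4) ew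
  p3 := by
    have hfin : Finite (_root_.commutator H0) := by
      apply Nat.finite_of_card_ne_zero
      rw [H0_result.2.2.2]
      norm_num
    have h1 := H845.TitsQData.dat.R_pgroup
    refine h1.to_le ?_
    rw [closure_le]
    rintro w hw
    simp only [Set.mem_insert_iff, Set.mem_singleton_iff] at hw
    rcases hw with rfl | rfl | rfl
    · exact H845.TitsQData.dat.uR
    · exact H845.TitsQData.dat.rR
    · exact H845.TitsQData.dat.zR
  z1 := H845.TitsQData.dat.z1
  u1 := H845.TitsQData.dat.u1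
  u3 := H845.TitsQData.dat.u3
  z3 := H845.TitsQData.dat.z3
  r3 := H845.TitsQData.dat.r3
  zu := H845.TitsQData.dat.zu
  zr := H845.TitsQData.dat.zr
  ru := H845.TitsQData.dat.ru
  g4 := by
    have h := rel (u := pw fw 12) (v := []) (by simp [rl])
    rw [ev_pw, ev_nil] at h
    rw [← pow_mul]
    exact h
  gz := (cube_alg H845.TitsQData.dat.u3 fu fr fz).2.2
  gu := (cube_alg H845.TitsQData.dat.u3 fu fr fz).1
  gr := (cube_alg H845.TitsQData.dat.u3 fu fr fz).2.1
  ez := by
    have h := rel (u := ew ++ zw) (v := pw zw 2 ++ ew) (by simp [rl])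
    rwa [ev_append, ev_append, ev_pw] at h
  eu := by
    have h := rel (u := ew ++ uw) (v := rw' ++ ew) (by simp [rl])
    rwa [ev_append, ev_append] at h
  er := by
    have h := rel (u := ew ++ rw') (v := uw ++ ew) (by simp [rl])
    rwa [ev_append, ev_append] at h

theorem tt_aux (K : Subgroup (GL I52 (ZMod 2))) (hK : K = H0) : Nonempty (TT (_root_.commutator K)) := by
  subst hK
  exact ⟨tt⟩

theorem tt_tits : Nonempty (TT Cfsg.Lie.TitsGroup) := tt_aux _ T0_eq_H0

end data

/-! ### the target -/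

theorem target_gen {G : Type} [Group G] [Finite G] (D : TT G) (D' : H87.TitsAbs.Dat G) (O : CpAutTits.Row.Out G) :
    Cfsg.Agent.H773.Rv.TargetP3 72 := by
  haveI : Fact (Nat.Prime 3) := ⟨by norm_num⟩
  have hcube : ∀ x ∈ D.R, x ^ 3 = 1 := by
    intro x hx
    obtain ⟨k, hk⟩ := D.p3 ⟨x, hx⟩
    exact cube D' O (b := k) (congrArg Subtype.val hk)
  have hC := card_cent_of D' O D.z3 D.z1
  have hT : ((D.T O.card : Sylow 3 G) : Subgroup G) = D.R := rfl
  refine ⟨G, inferInstance, inferInstance, D.T O.card, ?_, ?_, ?_, ?_⟩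
  · exact D.card_R O.card
  · exact hcube
  · rw [hT]
    have hur := mul_mem D.uR D.rR
    refine ⟨D.u, D.uR, D.r, D.rR, D.u * D.r, hur, ?_, ?_, ?_, ?_⟩
    · exact fun h => D.ru_ne h.symm
    · intro h
      apply D.ru_ne
      rw [← mul_assoc] at h
      exact mul_right_cancel h
    · intro h
      rw [mul_assoc] at h
      exact D.ru_ne (mul_left_cancel h).symm
    · intro x hx
      have hxR : x ∈ D.R := by
        simp only [Set.mem_insert_iff, Set.mem_singleton_iff] at hx
        rcases hx with rfl | rfl | rfl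
        · exact D.uR
        · exact D.rR
        · exact hur
      have hx1 : x ≠ 1 := by
        simp only [Set.mem_insert_iff, Set.mem_singleton_iff] at hx
        rintro rfl
        rcases hx with h | h | h
        · exact D.u1 h.symm
        · apply D.ru_ne
          rw [← h, one_mul, mul_one]
        · apply D.ru_ne
          have : D.r = D.u⁻¹ := (inv_eq_of_mul_eq_one_right h.symm).symm
          rw [this, inv_mul_cancel, mul_inv_cancel]
      refine ⟨D.z, D.zR, fun s hs => D.z_comm hs, ?_⟩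
      exact (isConj_t D' O (b := 1) (by rw [pow_one]; exact hcube x hxR) hx1).trans
        (isConj_t D' O (b := 1) (by rw [pow_one]; exact D.z3) D.z1).symm
  · rw [hT, D.card_norm O.card hC, D.card_cent O.card hC]

/-- **The Tits group**: `Aut_G(T)` has order 72. -/
theorem target : Cfsg.Agent.H773.Rv.TargetP3 72 := by
  have hfin : Finite Cfsg.Lie.TitsGroup := by
    apply Nat.finite_of_card_ne_zero
    rw [Cfsg.Agent.H87.TitsData.card_tits]
    norm_num
  obtain ⟨D⟩ := tt_tits
  obtain ⟨D'⟩ := H87.TitsData.dat_tits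
  exact target_gen D D' (CpAutTits.Row.out ⟨MulEquiv.refl _⟩)

end Cfsg.Agent.H745.RvTits
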