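import Mathlib

/-!
# Permutation groups of degree 4, 7, 8 and elements of odd order normalising a 2-subgroup (helper745, for S5161)

`Good E` : every element of odd order which normalises a 2-subgroup containing `E` is trivial.

* `good_four`, `good_seven`, `good_eight`.
-/

set_option autoImplicit false
set_option linter.style.haveILetI false

namespace Cfsg.Agent.H745.PermTwo

open Equiv Subgroup

/-- every element of odd order which normalises a 2-subgroup containing `E` is trivial -/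
def Good {n : ℕ} (E : Set (Perm (Fin n))) : Prop :=
  IsPGroup 2 (closure E) ∧ ∀ S : Subgroup (Perm (Fin n)), IsPGroup 2 S → E ⊆ S →
    ∀ w ∈ normalizer (S : Set (Perm (Fin n))), Odd (orderOf w) → w = 1

/-! ### the core -/

set_option maxRecDepth 100000 in
theorem t4 : ∀ w : Perm (Fin 4), w ^ 3 = 1 → (w * swap 2 3 * w⁻¹ * (swap 2 3)⁻¹) ^ 3 = 1 ∧
    ((w * swap 2 3 * w⁻¹ * (swap 2 3)⁻¹) = 1 → w = 1) := by decide +kernel

set_option maxRecDepth 100000 in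
theorem t12 : ∀ w : Perm (Fin 4), w ^ 12 = 1 := by decide +kernel

set_option maxRecDepth 100000 in
theorem t3 : ∀ w : Perm (Fin 3), w ^ 3 = 1 → (w * swap 0 1 * w⁻¹ * (swap 0 1)⁻¹) ^ 3 = 1 ∧
    ((w * swap 0 1 * w⁻¹ * (swap 0 1)⁻¹) = 1 → w = 1) := by decide +kernel

set_option maxRecDepth 100000 in
theorem t6 : ∀ w : Perm (Fin 3), w ^ 6 = 1 := by decide +kernel

theorem cube_of_odd {G : Type*} [Group G] {w : G} {m : ℕ} (h : w ^ (3 * 2 ^ m) = 1) (ho : Odd (orderOf w)) :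
    w ^ 3 = 1 := by
  have h1 : orderOf w ∣ 3 * 2 ^ m := orderOf_dvd_of_pow_eq_one h
  have h2 : Nat.Coprime (orderOf w) (2 ^ m) := Nat.Coprime.pow_right _ (Nat.coprime_two_right.2 ho)
  exact orderOf_dvd_iff_pow_eq_one.1 (h2.dvd_of_dvd_mul_right h1)

theorem eq_one_of_cube_two {G : Type*} [Group G] {u : G} {k : ℕ} (h3 : u ^ 3 = 1) (h2 : u ^ 2 ^ k = 1) : u = 1 := by
  have h4 : orderOf u ∣ 1 := by
    have hc : Nat.Coprime 3 (2 ^ k) := Nat.Coprime.pow_right _ (by norm_num)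
    rw [← hc]
    exact Nat.dvd_gcd (orderOf_dvd_of_pow_eq_one h3) (orderOf_dvd_of_pow_eq_one h2)
  rwa [Nat.dvd_one, orderOf_eq_one_iff] at h4

/-- the core argument: `P` is `Perm (Fin 4)` or `Perm (Fin 3)` -/
theorem core {G P : Type*} [Group G] [Group P] {S B : Subgroup G} (hS : IsPGroup 2 S) {w e : G}
    (hw : w ∈ normalizer (S : Set G)) (ho : Odd (orderOf w)) (he : e ∈ S) (hSB : S ≤ B) (hwB : w ∈ B)
    (κ : B →* P) {s : P} (hκ : κ ⟨e, hSB he⟩ = s) {m : ℕ} (hP : ∀ w : P, w ^ (3 * 2 ^ m) = 1)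
    (ht : ∀ w : P, w ^ 3 = 1 → (w * s * w⁻¹ * s⁻¹) ^ 3 = 1 ∧ ((w * s * w⁻¹ * s⁻¹) = 1 → w = 1)) :
    κ ⟨w, hwB⟩ = 1 := by
  have hu : w * e * w⁻¹ * e⁻¹ ∈ S := mul_mem ((mem_normalizer_iff.1 hw e).1 he) (inv_mem he)
  obtain ⟨k, hk⟩ := hS ⟨_, hu⟩
  have hk' : (w * e * w⁻¹ * e⁻¹) ^ 2 ^ k = 1 := congrArg Subtype.val hk
  have h1 : (κ ⟨w, hwB⟩) ^ 3 = 1 := by
    apply cube_of_odd (hP _)
    have h2 : orderOf (κ ⟨w, hwB⟩) ∣ orderOf w := by
      rw [← Subgroup.orderOf_mk w hwB]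
      exact orderOf_map_dvd _ _
    exact ho.of_dvd_nat h2
  obtain ⟨h2, h3⟩ := ht _ h1
  apply h3
  refine eq_one_of_cube_two (k := k) h2 ?_
  have h4 : κ ⟨w, hwB⟩ * s * (κ ⟨w, hwB⟩)⁻¹ * s⁻¹ = κ ⟨w * e * w⁻¹ * e⁻¹, hSB hu⟩ := by
    rw [← hκ, ← map_inv, ← map_inv, ← map_mul, ← map_mul, ← map_mul]
    rfl
  rw [h4, ← map_pow]
  have h5 : (⟨w * e * w⁻¹ * e⁻¹, hSB hu⟩ : B) ^ 2 ^ k = 1 := Subtype.ext hk'
  rw [h5, map_one]

/-! ### induced permutations -/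

/-- Permutations induced on `Fin m` by permutations of `Fin n`. -/
structure Ind {n m : ℕ} (B : Subgroup (Perm (Fin n))) (D : Set (Fin n)) (ι : Fin m → Fin n) (ρ : Fin n → Fin m) :
    Prop where
  stab : ∀ σ ∈ B, ∀ x ∈ D, σ x ∈ D
  mem : ∀ j, ι j ∈ D
  eq : ∀ j, ρ (ι j) = j
  comp : ∀ σ ∈ B, ∀ x ∈ D, ρ (σ (ι (ρ x))) = ρ (σ x)

namespace Ind

variable {n m : ℕ} {B : Subgroup (Perm (Fin n))} {D : Set (Fin n)} {ι : Fin m → Fin n} {ρ : Fin n → Fin m}
  (H : Ind B D ι ρ)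

include H

theorem mul_apply {σ τ : Perm (Fin n)} (hσ : σ ∈ B) (hτ : τ ∈ B) (j : Fin m) :
    ρ ((σ * τ) (ι j)) = ρ (σ (ι (ρ (τ (ι j))))) := by
  rw [H.comp σ hσ _ (H.stab τ hτ _ (H.mem j))]
  rfl

/-- the hom -/
def hom : B →* Perm (Fin m) where
  toFun σ :=
    { toFun := fun j => ρ ((σ : Perm (Fin n)) (ι j))
      invFun := fun j => ρ ((σ : Perm (Fin n))⁻¹ (ι j))
      left_inv := fun j => by
        show ρ ((σ : Perm (Fin n))⁻¹ (ι (ρ ((σ : Perm (Fin n)) (ι j))))) = j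
        rw [← H.mul_apply (inv_mem σ.2) σ.2, inv_mul_cancel]
        exact H.eq j
      right_inv := fun j => by
        show ρ ((σ : Perm (Fin n)) (ι (ρ ((σ : Perm (Fin n))⁻¹ (ι j))))) = j
        rw [← H.mul_apply σ.2 (inv_mem σ.2), mul_inv_cancel]
        exact H.eq j }
  map_one' := by
    ext j
    exact congrArg Fin.val (H.eq j)
  map_mul' σ τ := by
    ext j
    exact congrArg Fin.val (H.mul_apply σ.2 τ.2 j)

theorem hom_apply (σ : B) (j : Fin m) : H.hom σ j = ρ ((σ : Perm (Fin n)) (ι j)) := rfl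

end Ind

/-! ### degree 4 -/

theorem good_four : Good ({swap 2 3} : Set (Perm (Fin 4))) := by
  constructor
  · rw [← zpowers_eq_closure]
    apply IsPGroup.of_card (n := 1)
    rw [Nat.card_zpowers, pow_one]
    exact orderOf_eq_prime (by rw [pow_two]; exact swap_mul_self 2 3) (by decide)
  · intro S hS hE w hw ho
    have h1 : swap 2 3 ∈ S := hE rfl
    exact core (B := ⊤) hS hw ho h1 le_top (mem_top w) (⊤ : Subgroup (Perm (Fin 4))).subtype (s := swap 2 3) rfl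
      (m := 2) (fun w => t12 w) t4

/-! ### fibrations -/

theorem isPGroup_fib {n : ℕ} (f2 : Fin n → Fin 4) (f1 : Fin n → Fin 2)
    (h2 : ∀ x y z, f1 x = f1 y → f1 y = f1 z → f2 x ≠ f2 y → f2 y ≠ f2 z → f2 x = f2 z)
    (h3 : ∀ x y z, f2 x = f2 y → f2 y = f2 z → x ≠ y → y ≠ z → x = z)
    {E : Set (Perm (Fin n))}
    (hE : ∀ e ∈ E, ∀ x y, (f1 (e x) = f1 (e y) ↔ f1 x = f1 y) ∧ (f2 (e x) = f2 (e y) ↔ f2 x = f2 y)) :
    IsPGroup 2 (closure E) := by
  have hall : ∀ g ∈ closure E, ∀ x y, (f1 (g x) = f1 (g y) ↔ f1 x = f1 y) ∧ (f2 (g x) = f2 (g y) ↔ f2 x = f2 y) := by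
    intro g hg
    induction hg using closure_induction with
    | mem x hx => exact hE x hx
    | one => exact fun x y => ⟨Iff.rfl, Iff.rfl⟩
    | mul a b _ _ ha hb =>
      intro x y
      exact ⟨((ha _ _).1).trans (hb x y).1, ((ha _ _).2).trans (hb x y).2⟩
    | inv a _ ha =>
      intro x y
      have h := ha (a⁻¹ x) (a⁻¹ y)
      rw [show a (a⁻¹ x) = x from a.apply_symm_apply x, show a (a⁻¹ y) = y from a.apply_symm_apply y] at h
      exact ⟨h.1.symm, h.2.symm⟩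
  have h1 : ∀ x y z : Fin 2, x ≠ y → y ≠ z → x = z := by decide
  rintro ⟨g, hg⟩
  refine ⟨3, Subtype.ext ?_⟩
  show g ^ 2 ^ 3 = 1
  have k1 : ∀ x, f1 ((g * g) x) = f1 x := by
    intro x
    show f1 (g (g x)) = f1 x
    by_cases hx : f1 x = f1 (g x)
    · rw [← (hall g hg x (g x)).1.2 hx]
      exact hx.symm
    · exact (h1 _ _ _ hx (fun h => hx ((hall g hg x (g x)).1.1 h))).symm
  have hg2 : g * g ∈ closure E := mul_mem hg hg
  set a := g * g with ha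
  have k2 : ∀ x, f2 ((a * a) x) = f2 x := by
    intro x
    show f2 (a (a x)) = f2 x
    by_cases hx : f2 x = f2 (a x)
    · rw [← (hall a hg2 x (a x)).2.2 hx]
      exact hx.symm
    · exact (h2 _ _ _ (k1 x).symm (k1 (a x)).symm hx (fun h => hx ((hall a hg2 x (a x)).2.1 h))).symm
  have hg4 : a * a ∈ closure E := mul_mem hg2 hg2
  set b := a * a with hb
  have k3 : ∀ x, b (b x) = x := by
    intro x
    by_cases hx : x = b x
    · rw [← hx]; exact hx.symm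
    · exact (h3 _ _ _ (k2 x).symm (k2 (b x)).symm hx (fun h => hx (b.injective h))).symm
  have e : g ^ 2 ^ 3 = b * b := by
    rw [hb, ha]
    simp only [← pow_two, ← pow_mul]
    norm_num
  rw [e]
  exact Equiv.ext k3

/-! ### degree 7 -/

/-- the permutations of `Fin 7` which preserve `{3, 4, 5, 6}` -/
def B7 : Subgroup (Perm (Fin 7)) where
  carrier := {σ | ∀ x, (3 : Fin 7) ≤ σ x ↔ 3 ≤ x}
  mul_mem' := fun {σ τ} hσ hτ x => (hσ (τ x)).trans (hτ x)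
  one_mem' := fun _ => Iff.rfl
  inv_mem' := fun {σ} hσ x => by
    have h := hσ (σ⁻¹ x)
    rw [show σ (σ⁻¹ x) = x from σ.apply_symm_apply x] at h
    exact h.symm

theorem mem_B7 {σ : Perm (Fin 7)} : σ ∈ B7 ↔ ∀ x, (3 : Fin 7) ≤ σ x ↔ 3 ≤ x := Iff.rfl

def a7 : Perm (Fin 7) := swap 0 2 * swap 3 4
def b7 : Perm (Fin 7) := swap 3 5 * swap 4 6

def E7 : Set (Perm (Fin 7)) := {a7, b7}

theorem orbit_card {S : Subgroup (Perm (Fin 7))} (hS : IsPGroup 2 S) (hE : E7 ⊆ S) {x : Fin 7} (hx : 3 ≤ x) :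
    (MulAction.orbit S x : Set (Fin 7)) = {y | 3 ≤ y} := by
  classical
  have ha : a7 ∈ S := hE (by simp [E7])
  have hb : b7 ∈ S := hE (by simp [E7])
  have h1 : ({y | 3 ≤ y} : Set (Fin 7)) ⊆ MulAction.orbit S x := by
    have hd : ∀ x y : Fin 7, 3 ≤ x → 3 ≤ y → x = y ∨ a7 x = y ∨ b7 x = y ∨ (a7 * b7) x = y ∨
        (b7 * a7) x = y ∨ (b7 * a7 * b7) x = y := by decide
    intro y hy
    rcases hd x y hx hy with h | h | h | h | h | h
    · exact ⟨1, h⟩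
    · exact ⟨⟨a7, ha⟩, h⟩
    · exact ⟨⟨b7, hb⟩, h⟩
    · exact ⟨⟨a7 * b7, mul_mem ha hb⟩, h⟩
    · exact ⟨⟨b7 * a7, mul_mem hb ha⟩, h⟩
    · exact ⟨⟨b7 * a7 * b7, mul_mem (mul_mem hb ha) hb⟩, h⟩
  haveI : Fact (Nat.Prime 2) := ⟨Nat.prime_two⟩
  obtain ⟨n, hn⟩ := hS.card_orbit x
  rw [Nat.card_coe_set_eq] at hn
  have h4 : ({y | 3 ≤ y} : Set (Fin 7)).ncard = 4 := by
    rw [Set.ncard_eq_toFinset_card']
    decide
  have h5 : 4 ≤ (MulAction.orbit S x : Set (Fin 7)).ncard := by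
    rw [← h4]; exact Set.ncard_le_ncard h1 (Set.toFinite _)
  have h6 : (MulAction.orbit S x : Set (Fin 7)).ncard ≤ 7 := by
    have := Set.ncard_le_card (MulAction.orbit S x : Set (Fin 7))
    rwa [Nat.card_eq_fintype_card, Fintype.card_fin] at this
  have h7 : n = 2 := by
    rw [hn] at h5 h6
    have h8 : n < 3 := by
      by_contra h
      have : 2 ^ 3 ≤ 2 ^ n := Nat.pow_le_pow_right (by norm_num) (by omega)
      omega
    have h9 : 1 < n := by
      by_contra h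
      have : 2 ^ n ≤ 2 ^ 1 := Nat.pow_le_pow_right (by norm_num) (by omega)
      omega
    omega
  symm
  apply Set.eq_of_subset_of_ncard_le h1 _ (Set.toFinite _)
  rw [hn, h7, h4]
  norm_num

theorem le_B7 {S : Subgroup (Perm (Fin 7))} (hS : IsPGroup 2 S) (hE : E7 ⊆ S) : S ≤ B7 := by
  have key : ∀ σ ∈ S, ∀ x, (3 : Fin 7) ≤ x → 3 ≤ σ x := by
    intro σ hσ x hx
    have h1 : σ x ∈ (MulAction.orbit S x : Set (Fin 7)) := ⟨⟨σ, hσ⟩, rfl⟩
    rw [orbit_card hS hE hx] at h1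
    exact h1
  intro σ hσ x
  refine ⟨fun h => ?_, key σ hσ x⟩
  have h2 := key σ⁻¹ (inv_mem hσ) _ h
  rwa [show σ⁻¹ (σ x) = x from σ.symm_apply_apply x] at h2

theorem norm_B7 {S : Subgroup (Perm (Fin 7))} (hS : IsPGroup 2 S) (hE : E7 ⊆ S) {w : Perm (Fin 7)}
    (hw : w ∈ normalizer (S : Set (Perm (Fin 7)))) : w ∈ B7 := by
  classical
  have h4 : ({y | 3 ≤ y} : Set (Fin 7)).ncard = 4 := by
    rw [Set.ncard_eq_toFinset_card']
    decide
  have himg : ∀ w ∈ normalizer (S : Set (Perm (Fin 7))), ∀ y : Fin 7, 3 ≤ y →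
      ∃ s ∈ S, w y = s (w 3) := by
    intro w hw y hy
    have h1 : y ∈ (MulAction.orbit S (3 : Fin 7) : Set (Fin 7)) := by
      rw [orbit_card hS hE le_rfl]; exact hy
    obtain ⟨⟨s, hs⟩, hsy⟩ := h1
    refine ⟨w * s * w⁻¹, (mem_normalizer_iff.1 hw s).1 hs, ?_⟩
    have hsy' : s 3 = y := hsy
    rw [← hsy']
    simp [Perm.mul_apply]
  have hthree : ∀ w ∈ normalizer (S : Set (Perm (Fin 7))), (3 : Fin 7) ≤ w 3 := by
    intro w hw
    by_contra hcon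
    have hall : ∀ y : Fin 7, 3 ≤ y → ¬ 3 ≤ w y := by
      intro y hy h
      obtain ⟨s, hs, he⟩ := himg w hw y hy
      rw [he] at h
      exact hcon ((mem_B7.1 (le_B7 hS hE hs) (w 3)).1 h)
    have h5 : (w '' ({y | 3 ≤ y} : Set (Fin 7))).ncard = 4 := by
      rw [Set.ncard_image_of_injective _ w.injective, h4]
    have h6 : (w '' ({y | 3 ≤ y} : Set (Fin 7))) ⊆ {y | ¬ 3 ≤ y} := by
      rintro _ ⟨y, hy, rfl⟩
      exact hall y hy
    have h7 : ({y | ¬ 3 ≤ y} : Set (Fin 7)).ncard = 3 := by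
      rw [Set.ncard_eq_toFinset_card']
      decide
    have h8 := Set.ncard_le_ncard h6 (Set.toFinite _)
    omega
  have key : ∀ w ∈ normalizer (S : Set (Perm (Fin 7))), ∀ y : Fin 7, 3 ≤ y → 3 ≤ w y := by
    intro w hw y hy
    obtain ⟨s, hs, he⟩ := himg w hw y hy
    rw [he]
    exact (mem_B7.1 (le_B7 hS hE hs) (w 3)).2 (hthree w hw)
  intro x
  refine ⟨fun h => ?_, key w hw x⟩
  have h2 := key w⁻¹ (inv_mem hw) _ h
  rwa [show w⁻¹ (w x) = x from w.symm_apply_apply x] at h2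

def iA : Fin 4 → Fin 7 := ![5, 6, 3, 4]
def rA : Fin 7 → Fin 4 := ![0, 0, 0, 2, 3, 0, 1]
def iB : Fin 3 → Fin 7 := ![0, 2, 1]
def rB : Fin 7 → Fin 3 := ![0, 2, 1, 0, 0, 0, 0]

theorem indA : Ind B7 {x | 3 ≤ x} iA rA where
  stab := fun σ hσ x hx => (mem_B7.1 hσ x).2 hx
  mem := by decide
  eq := by decide
  comp := fun σ _ x hx => by
    have h : ∀ x : Fin 7, 3 ≤ x → iA (rA x) = x := by decide
    rw [h x hx]

theorem indB : Ind B7 {x | ¬ 3 ≤ x} iB rB where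
  stab := fun σ hσ x hx => fun h => hx ((mem_B7.1 hσ x).1 h)
  mem := by decide
  eq := by decide
  comp := fun σ _ x hx => by
    have h : ∀ x : Fin 7, ¬ 3 ≤ x → iB (rB x) = x := by decide
    rw [h x hx]

theorem good_seven : Good E7 := by
  constructor
  · apply isPGroup_fib (![1, 0, 1, 3, 3, 2, 2]) (![0, 0, 0, 1, 1, 1, 1])
    · decide
    · decide
    · rintro e (rfl | rfl) <;> decide
  · intro S hS hE w hw ho
    have ha : a7 ∈ S := hE (by simp [E7])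
    have h1 := core hS hw ho ha (le_B7 hS hE) (norm_B7 hS hE hw) indA.hom (s := swap 2 3)
      (Equiv.ext (show ∀ j, rA (a7 (iA j)) = swap 2 3 j by decide)) (m := 2) t12 t4
    have h2 := core hS hw ho ha (le_B7 hS hE) (norm_B7 hS hE hw) indB.hom (s := swap 0 1)
      (Equiv.ext (show ∀ j, rB (a7 (iB j)) = swap 0 1 j by decide)) (m := 1) t6 t3
    have hwB := mem_B7.1 (norm_B7 hS hE hw)
    ext x
    by_cases hx : 3 ≤ x
    · have hA : ∀ x : Fin 7, 3 ≤ x → iA (rA x) = x := by decide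
      have h3 : indA.hom ⟨w, norm_B7 hS hE hw⟩ (rA x) = rA x := by rw [h1]; rfl
      rw [Ind.hom_apply, hA x hx] at h3
      have h4 : w x = iA (rA (w x)) := (hA _ ((hwB x).2 hx)).symm
      have h3' : rA (w x) = rA x := h3
      rw [h4, h3', hA x hx]
      rfl
    · have hA : ∀ x : Fin 7, ¬ 3 ≤ x → iB (rB x) = x := by decide
      have h3 : indB.hom ⟨w, norm_B7 hS hE hw⟩ (rB x) = rB x := by rw [h2]; rfl
      rw [Ind.hom_apply, hA x hx] at h3
      have h4 : w x = iB (rB (w x)) := (hA _ (fun h => hx ((hwB x).1 h))).symm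
      have h3' : rB (w x) = rB x := h3
      rw [h4, h3', hA x hx]
      rfl

end Cfsg.Agent.H745.PermTwo
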