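import Cfsg.Agent.H745.FusNormalCrit
import Cfsg.Agent.H802.FusNorm

/-!
# Normality of strongly closed subgroups through automorphisms of order prime to `p` (helper745)

* `isNormal_of_coprime`: a strongly closed `Q` is normal if for every fully automized and receptive `R` not containing
  `Q`, every `κ ∈ Aut_F(R)` of order prime to `p` with `x⁻¹ κ(x) ∈ Q` for all `x ∈ R` is trivial on `R ∩ Q`.
* `isReceptive_of_stronglyClosed`: strongly closed subgroups are fully automized and receptive.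
-/

set_option autoImplicit false

namespace Cfsg.Agent.H745

open Cfsg Cfsg.FusionSystem Cfsg.Agent.H759

variable {Ω : Type*} [Group Ω] {S : Subgroup Ω} {F : FusionSystem S}

/-- Strongly closed subgroups are fully automized and receptive. -/
theorem isReceptive_of_stronglyClosed [Finite S] {p : ℕ} (hF : F.IsSaturated p) {E : Subgroup Ω}
    (hE : F.StronglyClosed E) : F.IsFullyAutomized p E ∧ F.IsReceptive E := by
  obtain ⟨Q, ⟨φ, hφ, hr⟩, hQa, hQr⟩ := hF E hE.1
  have hfE : Finite E := Finite.of_injective _ (Subgroup.inclusion_injective hE.1)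
  have h1 : φ.range = E := H802.range_eq_of_mapsTo hφ (fun x => hE.2 E le_rfl φ hφ x)
  rw [h1] at hr
  subst hr
  exact ⟨hQa, hQr⟩

/-- **Normality criterion** through automorphisms of order prime to `p`. -/
theorem isNormal_of_coprime [Finite S] {p : ℕ} [Fact p.Prime] (hS : IsPGroup p S)
    (hF : F.IsSaturated p) {Q : Subgroup Ω} (hQ : F.StronglyClosed Q)
    (hc : ∀ R : Subgroup Ω, F.IsFullyAutomized p R → F.IsReceptive R → ¬ Q ≤ R →
      ∀ κ ∈ F.autGroup R, (∀ x : R, (x : Ω)⁻¹ * (κ x : R) ∈ Q) →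
        ∀ m : ℕ, ¬ p ∣ m → κ ^ m = 1 → ∀ x : R, (x : Ω) ∈ Q → κ x = x) :
    F.IsNormal Q := by
  refine isNormal_of_forall hS hF hQ (fun R hRa hRr hQR α hα g hg hgn => ?_)
  have hRS : R ≤ S := hRa.1
  have hfR : Finite R := Finite.of_injective _ (Subgroup.inclusion_injective hRS)
  let K : Subgroup (MulAut R) :=
    { carrier := {κ | κ ∈ F.autGroup R ∧ (∀ x : R, (x : Ω)⁻¹ * (κ x : R) ∈ Q)}
      one_mem' := ⟨one_mem _, fun x => by simp⟩
      mul_mem' := by
        rintro a b ⟨ha, ha'⟩ ⟨hb, hb'⟩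
        have h1 : ∀ x : R, (x : Ω)⁻¹ * (a (b x) : R) = ((x : Ω)⁻¹ * (b x : R)) *
          (((b x : R) : Ω)⁻¹ * (a (b x) : R)) := fun x => by group
        refine ⟨mul_mem ha hb, fun x => ?_⟩
        rw [MulAut.mul_apply, h1]
        exact mul_mem (hb' x) (ha' _)
      inv_mem' := by
        rintro a ⟨ha, ha'⟩
        refine ⟨inv_mem ha, fun x => ?_⟩
        have h1 := ha' (a⁻¹ x)
        rw [MulAut.apply_inv_self] at h1
        have h2 := inv_mem h1
        simpa using h2 }
  have hKA : K ≤ F.autGroup R := fun k hk => hk.1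
  have hKn : ∀ a ∈ F.autGroup R, ∀ k ∈ K, a * k * a⁻¹ ∈ K := by
    rintro a ha k ⟨hk, hk'⟩
    have ham := (mem_autGroup F hRS).1 ha
    refine ⟨mul_mem (mul_mem ha hk) (inv_mem ha), fun x => ?_⟩
    have h1 := hk' (a⁻¹ x)
    have h2 : ((a ((a⁻¹ x)⁻¹ * k (a⁻¹ x)) : R) : Ω) ∈ Q :=
      StronglyClosed.apply_mem hQ ham (x := (a⁻¹ x)⁻¹ * k (a⁻¹ x)) h1
    rw [map_mul, map_inv, MulAut.apply_inv_self] at h2
    exact h2
  have hKp : IsPGroup p K := by
    rintro ⟨κ, hκ⟩
    have hfin : Finite (MulAut R) := inferInstance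
    have hpos : 0 < orderOf κ := orderOf_pos κ
    obtain ⟨a, m, hm, hom⟩ := Nat.exists_eq_pow_mul_and_not_dvd hpos.ne' p
      (Fact.out : p.Prime).ne_one
    refine ⟨a, Subtype.ext ?_⟩
    show κ ^ p ^ a = 1
    have hκ' : κ ^ p ^ a ∈ K := K.pow_mem hκ _
    have hord : (κ ^ p ^ a) ^ m = 1 := by rw [← pow_mul, ← hom, pow_orderOf_eq_one]
    have htriv := hc R hRa hRr hQR (κ ^ p ^ a) hκ'.1 hκ'.2 m hm hord
    set l := κ ^ p ^ a with hl
    apply MulEquiv.ext
    intro x
    set y : R := x⁻¹ * l x with hy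
    have hyQ : (y : Ω) ∈ Q := hκ'.2 x
    have hly : l y = y := htriv y hyQ
    have hlx : l x = x * y := by rw [hy]; group
    have hlj : ∀ j : ℕ, (l ^ j) x = x * y ^ j := by
      intro j
      induction j with
      | zero => simp
      | succ j ihj =>
        rw [pow_succ', MulAut.mul_apply, ihj, map_mul, hlx, map_pow, hly, mul_assoc, pow_succ']
    have h1 : y ^ m = 1 := by
      have h2 := hlj m
      rw [hord, MulAut.one_apply] at h2
      exact mul_eq_left.1 h2.symm
    have hy1 : y = 1 := by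
      obtain ⟨i, hi⟩ := (IsPGroup.iff_orderOf.1 (hS.to_le hRS)) y
      have h3 : orderOf y ∣ m := orderOf_dvd_of_pow_eq_one h1
      have h4 : Nat.Coprime (orderOf y) m := by
        rw [hi]
        exact Nat.Coprime.pow_left _ (((Fact.out : p.Prime).coprime_iff_not_dvd).2 hm)
      exact orderOf_eq_one_iff.1 (Nat.eq_one_of_dvd_coprimes h4 dvd_rfl h3)
    rw [hlx, hy1, mul_one]
    rfl
  have hKS := le_autInducedBy_of_normal hRa K hKA hKn hKp
  apply hKS
  apply hKn α hα
  refine ⟨autGroup_map F (conj_mem' F hRS (hQ.1 hg) (fun x => rfl)), fun x => ?_⟩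
  rw [coe_conjAut]
  have h1 : (x : Ω)⁻¹ * (g * x * g⁻¹) = ((x : Ω)⁻¹ * g * x) * g⁻¹ := by group
  rw [h1]
  exact mul_mem (StronglyClosed.conj_mem' hQ (hRS x.2) hg) (inv_mem hg)

end Cfsg.Agent.H745
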