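import Cfsg.Agent.H747.RowTwo
import Cfsg.Agent.H745.PermTwo
import Cfsg.Agent.Cit.Commute
import Cfsg.Agent.Cit.AutQuat
import Cfsg.Agent.Cit.AutFacts
import Cfsg.Agent.LFourB.ProdAut
import Cfsg.Agent.S0950
import Cfsg.Agent.S0261

/-!
# Groups with a frame of commuting `SL₂(q)`, `q` odd: elements of odd order of `N(T)` centralise `T` (helper745)

For S5161 (rows of Lie type in odd characteristic). Main result: `Frame.oddRow`.
-/

set_option autoImplicit false
set_option linter.style.haveILetI false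
set_option linter.unusedSectionVars false

namespace Cfsg.Agent.H745.RowAbs

open Subgroup Cfsg.Agent.Cit Matrix

variable {K : Type*} [Group K]

/-! ### generalised quaternion groups -/

theorem q8_pair : ∀ x y : QuaternionGroup 2, x * x ≠ 1 → y * y ≠ 1 → y ≠ x → y ≠ x⁻¹ →
    x * y * x⁻¹ = y⁻¹ ∧ y * x * y⁻¹ = x⁻¹ := by decide +kernel

theorem pair_of_card {Q : Subgroup K} (hQ : AutQuat.IsQ Q) (h8 : Nat.card Q = 8) {x y : K} (hx : x ∈ Q) (hy : y ∈ Q)
    (hx2 : x * x ≠ 1) (hy2 : y * y ≠ 1) (h1 : y ≠ x) (h2 : y ≠ x⁻¹) :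
    x * y * x⁻¹ = y⁻¹ ∧ y * x * y⁻¹ = x⁻¹ := by
  obtain ⟨n, ⟨e⟩⟩ := hQ
  have hn : n = 0 := by
    by_contra hn
    have h3 : Nat.card Q = 4 * 2 ^ (n + 1) := by
      rw [Nat.card_congr e.toEquiv, Nat.card_eq_fintype_card, QuaternionGroup.card]
    have h4 : 2 ^ 2 ≤ 2 ^ (n + 1) := Nat.pow_le_pow_right (by norm_num) (by omega)
    omega
  subst hn
  have key := q8_pair (e ⟨x, hx⟩) (e ⟨y, hy⟩)
    (fun h => hx2 (by
      rw [← map_mul, map_eq_one_iff e e.injective] at h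
      exact congrArg Subtype.val h))
    (fun h => hy2 (by
      rw [← map_mul, map_eq_one_iff e e.injective] at h
      exact congrArg Subtype.val h))
    (fun h => h1 (congrArg Subtype.val (e.injective h)))
    (fun h => h2 (by
      rw [← map_inv] at h
      exact congrArg Subtype.val (e.injective h)))
  constructor
  · have h := key.1
    rw [← map_inv, ← map_mul, ← map_mul, ← map_inv] at h
    exact congrArg Subtype.val (e.injective h)
  · have h := key.2
    rw [← map_inv, ← map_mul, ← map_mul, ← map_inv] at h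
    exact congrArg Subtype.val (e.injective h)

/-- elements of odd order normalising a generalised quaternion group centralise it, in the case of `Q₈` if they
fix a subgroup of order `4` -/
theorem centralizes_of {Q : Subgroup K} (hQ : AutQuat.IsQ Q) {w : K} (hw : w ∈ normalizer (Q : Set K))
    (ho : Odd (orderOf w))
    (h8 : Nat.card Q = 8 → ∃ x ∈ Q, x * x ≠ 1 ∧ (w * x * w⁻¹ = x ∨ w * x * w⁻¹ = x⁻¹)) :
    ∀ x ∈ Q, w * x = x * w := by
  obtain ⟨n, ⟨e⟩⟩ := hQ
  set φ : MulAut Q := Q.normalizerMonoidHom ⟨w, hw⟩ with hφ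
  have hap : ∀ x : Q, ((φ x : Q) : K) = w * x * w⁻¹ := fun x => rfl
  have hpow : φ ^ (orderOf w) = 1 := by
    rw [hφ, ← map_pow]
    have : (⟨w, hw⟩ : normalizer (Q : Set K)) ^ orderOf w = 1 := Subtype.ext (pow_orderOf_eq_one w)
    rw [this, map_one]
  have h1 : φ = 1 := by
    rcases Nat.eq_zero_or_pos n with hn | hn
    · subst hn
      have hc : Nat.card Q = 8 := by
        rw [Nat.card_congr e.toEquiv, Nat.card_eq_fintype_card, QuaternionGroup.card]
        norm_num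
      obtain ⟨x, hx, hx2, hxw⟩ := h8 hc
      have h2 : MulAut.congr e φ = 1 := by
        refine S0950.lemA _ (orderOf w) ho (by rw [← map_pow, hpow, map_one]) (e ⟨x, hx⟩) ?_ ?_
        · intro h
          rw [← map_mul, map_eq_one_iff e e.injective] at h
          exact hx2 (congrArg Subtype.val h)
        · have h3 : (MulAut.congr e φ) (e ⟨x, hx⟩) = e (φ ⟨x, hx⟩) := by
            show e (φ (e.symm (e ⟨x, hx⟩))) = _
            rw [MulEquiv.symm_apply_apply]
          rw [h3]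
          rcases hxw with h4 | h4
          · left
            congr 1
            exact Subtype.ext h4
          · right
            rw [← map_inv]
            congr 1
            exact Subtype.ext h4
      exact (MulAut.congr e).injective (by rw [h2, map_one])
    · exact LFourB.ProdAut.eq_one_of_odd' (by omega) e φ ho hpow
  intro x hx
  have h2 := hap ⟨x, hx⟩
  rw [h1, MulAut.one_apply] at h2
  have h3 : x = w * x * w⁻¹ := h2
  calc w * x = w * x * w⁻¹ * w := by group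
    _ = x * w := by rw [← h3]

theorem exists_pair {Q : Subgroup K} (hQ : AutQuat.IsQ Q) : ∃ a ∈ Q, ∃ b ∈ Q, a * b ≠ b * a := by
  obtain ⟨x, hx, hx4⟩ := hQ.exists_four
  obtain ⟨y, hy, hxy⟩ := hQ.exists_inverts x hx
  refine ⟨x, hx, y, hy, fun h => ?_⟩
  have h5 : x = x⁻¹ := by
    rw [← hxy, ← h]
    group
  have h6 : x ^ 2 = 1 := by rw [pow_two]; nth_rewrite 2 [h5]; exact mul_inv_cancel x
  have h7 := orderOf_dvd_of_pow_eq_one h6
  rw [hx4] at h7
  omega

theorem norm_cj {M : Type*} [Group M] {T : Subgroup M} {w : M} (hw : w ∈ normalizer (T : Set M)) (h : M) :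
    h * w * h⁻¹ ∈ normalizer ((cj h T : Subgroup M) : Set M) := by
  rw [mem_normalizer_iff_cj] at hw ⊢
  rw [← cj_mul, show h * w * h⁻¹ * h = h * w by group, cj_mul, hw]

theorem coe_smul {M : Type*} [Group M] {S T : Sylow 2 M} {h : M} (hh : h • T = S) :
    (S : Subgroup M) = cj h (T : Subgroup M) := by
  rw [← hh]
  rfl

/-- all 2-subgroups of the range are contained in the image of any Sylow subgroup up to conjugation -/
theorem odd_map {M P : Type*} [Group M] [Group P] [Finite M] (π : M →* P) (T : Sylow 2 M) {w : M}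
    (hw : w ∈ normalizer ((T : Subgroup M) : Set M)) (ho : Odd (orderOf w)) {R : Subgroup M} (hR : IsPGroup 2 R)
    (hgood : ∀ S : Subgroup P, IsPGroup 2 S → R.map π ≤ S →
      ∀ w ∈ normalizer (S : Set P), Odd (orderOf w) → w = 1) : π w = 1 := by
  haveI : Fact (Nat.Prime 2) := ⟨Nat.prime_two⟩
  obtain ⟨S, hS⟩ := hR.exists_le_sylow
  obtain ⟨h, hh⟩ := MulAction.exists_smul_eq M T S
  have h1 := norm_cj hw h
  rw [← coe_smul hh] at h1
  have h2 : π (h * w * h⁻¹) = 1 := by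
    refine hgood _ (S.isPGroup'.map π) (Subgroup.map_mono hS) _ (le_normalizer_map π ⟨_, h1, rfl⟩) ?_
    have h3 : orderOf (π (h * w * h⁻¹)) ∣ orderOf w := by
      refine (orderOf_map_dvd _ _).trans ?_
      have e1 : orderOf (h * w * h⁻¹) = orderOf w := (MulAut.conj h).orderOf_eq _
      rw [e1]
    exact ho.of_dvd_nat h3
  rw [map_mul, map_mul, map_inv] at h2
  exact mul_eq_left.1 (mul_inv_eq_one.1 h2)

/-- a 2-subgroup of the range is covered by a 2-subgroup -/
theorem exists_two_lift {M P : Type*} [Group M] [Group P] [Finite M] (π : M →* P) (C : Subgroup P) (hC : IsPGroup 2 C)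
    (hle : C ≤ π.range) : ∃ R : Subgroup M, IsPGroup 2 R ∧ C ≤ R.map π := by
  haveI : Fact (Nat.Prime 2) := ⟨Nat.prime_two⟩
  let f : C.comap π →* C := (π.comp (C.comap π).subtype).codRestrict C fun x => x.2
  have hf : Function.Surjective f := by
    rintro ⟨c, hc⟩
    obtain ⟨x, rfl⟩ := hle hc
    exact ⟨⟨x, hc⟩, rfl⟩
  haveI : Finite C := Finite.of_surjective f hf
  obtain ⟨Q⟩ : Nonempty (Sylow 2 (C.comap π)) := inferInstance
  have h1 : ((Q.mapSurjective hf : Sylow 2 C) : Subgroup C) = ⊤ := by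
    symm
    exact (Q.mapSurjective hf).3 (hC.to_subgroup ⊤) le_top
  refine ⟨(Q : Subgroup (C.comap π)).map (C.comap π).subtype, Q.isPGroup'.map _, fun c hc => ?_⟩
  have h2 : (⟨c, hc⟩ : C) ∈ ((Q.mapSurjective hf : Sylow 2 C) : Subgroup C) := by
    rw [h1]
    exact mem_top _
  obtain ⟨q, hq, hqc⟩ := h2
  exact ⟨(q : M), ⟨q, hq, rfl⟩, congrArg Subtype.val hqc⟩

theorem eq_one_of_coprime {u : K} {k j : ℕ} (hk : Odd k) (h1 : u ^ k = 1) (h2 : u ^ 2 ^ j = 1) : u = 1 := by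
  have h4 : orderOf u ∣ 1 := by
    have hc : Nat.Coprime k (2 ^ j) := Nat.Coprime.pow_right _ (Nat.coprime_two_right.2 hk)
    rw [← hc]
    exact Nat.dvd_gcd (orderOf_dvd_of_pow_eq_one h1) (orderOf_dvd_of_pow_eq_one h2)
  rwa [Nat.dvd_one, orderOf_eq_one_iff] at h4

theorem of_mem_zpowers {x y : K} (hx : orderOf x = 4) (hy : orderOf y = 4) (h : y ∈ zpowers x) : y = x ∨ y = x⁻¹ := by
  have hfin : 0 < orderOf x := by omega
  obtain ⟨k, hk, rfl⟩ : ∃ k < orderOf x, x ^ k = y := by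
    obtain ⟨k, hk⟩ := (mem_zpowers_iff).1 h
    refine ⟨(k % (orderOf x : ℤ)).toNat, ?_, ?_⟩
    · have h1 := Int.emod_lt_of_pos k (b := (orderOf x : ℤ)) (by exact_mod_cast hfin)
      have h2 := Int.emod_nonneg k (b := (orderOf x : ℤ)) (by exact_mod_cast hfin.ne')
      omega
    · have h2 := Int.emod_nonneg k (b := (orderOf x : ℤ)) (by exact_mod_cast hfin.ne')
      rw [← zpow_natCast, Int.toNat_of_nonneg h2, zpow_mod_orderOf, hk]
  rw [hx] at hk
  have h4 : x ^ 4 = 1 := by rw [← hx]; exact pow_orderOf_eq_one x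
  interval_cases k
  · rw [pow_zero, orderOf_one] at hy
    omega
  · left
    exact pow_one x
  · exfalso
    have h5 : (x ^ 2) ^ 2 = 1 := by rw [← pow_mul]; exact h4
    have := orderOf_dvd_of_pow_eq_one h5
    rw [hy] at this
    omega
  · right
    rw [eq_inv_iff_mul_eq_one, ← pow_succ]
    exact h4

/-- an element which normalises two cyclic subgroups of order `4` acts like an inner automorphism -/
theorem exists_inner {Q : Subgroup K} {x y t : K} (hx : x ∈ Q) (hy : y ∈ Q)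
    (h1 : x * y * x⁻¹ = y⁻¹) (h2 : y * x * y⁻¹ = x⁻¹) (htx : t * x * t⁻¹ = x ∨ t * x * t⁻¹ = x⁻¹)
    (hty : t * y * t⁻¹ = y ∨ t * y * t⁻¹ = y⁻¹) :
    ∃ q ∈ Q, q⁻¹ * t * x = x * (q⁻¹ * t) ∧ q⁻¹ * t * y = y * (q⁻¹ * t) := by
  have key : ∀ q u : K, q * u * q⁻¹ = t * u * t⁻¹ → q⁻¹ * t * u = u * (q⁻¹ * t) := by
    intro q u h
    calc q⁻¹ * t * u = q⁻¹ * (t * u * t⁻¹) * t := by group
      _ = q⁻¹ * (q * u * q⁻¹) * t := by rw [h]
      _ = u * (q⁻¹ * t) := by group
  have h3 : x * x * x⁻¹ = x := by group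
  have h4 : y * y * y⁻¹ = y := by group
  rcases htx with a | a <;> rcases hty with b | b
  · refine ⟨1, Q.one_mem, key _ _ ?_, key _ _ ?_⟩
    · rw [a]; group
    · rw [b]; group
  · exact ⟨x, hx, key _ _ (by rw [a, h3]), key _ _ (by rw [b, h1])⟩
  · exact ⟨y, hy, key _ _ (by rw [a, h2]), key _ _ (by rw [b, h4])⟩
  · refine ⟨x * y, Q.mul_mem hx hy, key _ _ ?_, key _ _ ?_⟩
    · rw [a]
      calc x * y * x * (x * y)⁻¹ = x * (y * x * y⁻¹) * x⁻¹ := by group
        _ = x⁻¹ := by rw [h2]; group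
    · rw [b]
      calc x * y * y * (x * y)⁻¹ = x * y * x⁻¹ := by group
        _ = y⁻¹ := h1

/-! ### two by two matrices -/

variable {F : Type*} [Field F]

/-- a matrix commuting with two noncommuting matrices is scalar -/
theorem scalar_of_comm {m x y : Matrix (Fin 2) (Fin 2) F} (hx : m * x = x * m) (hy : m * y = y * m)
    (hxy : x * y ≠ y * x) : ∃ c : F, m = c • (1 : Matrix (Fin 2) (Fin 2) F) := by
  have e1 : ∀ a b : Matrix (Fin 2) (Fin 2) F, a * b = b * a ↔
      (a 0 1 * b 1 0 = b 0 1 * a 1 0 ∧ a 0 0 * b 0 1 + a 0 1 * b 1 1 = b 0 0 * a 0 1 + b 0 1 * a 1 1 ∧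
        a 1 0 * b 0 0 + a 1 1 * b 1 0 = b 1 0 * a 0 0 + b 1 1 * a 1 0) := by
    intro a b
    constructor
    · intro h
      have h00 := congrFun (congrFun h 0) 0
      have h01 := congrFun (congrFun h 0) 1
      have h10 := congrFun (congrFun h 1) 0
      simp only [Matrix.mul_apply, Fin.sum_univ_two] at h00 h01 h10
      exact ⟨by linear_combination h00, h01, h10⟩
    · rintro ⟨h1, h2, h3⟩
      ext i j
      fin_cases i <;> fin_cases j <;> simp only [Matrix.mul_apply, Fin.sum_univ_two, Fin.zero_eta, Fin.mk_one]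
      · linear_combination h1
      · exact h2
      · exact h3
      · linear_combination -h1
  rw [e1] at hx hy
  obtain ⟨x1, x2, x3⟩ := hx
  obtain ⟨y1, y2, y3⟩ := hy
  have hb : m 0 1 = 0 := by
    by_contra hb
    apply hxy
    rw [e1]
    refine ⟨?_, ?_, ?_⟩
    · apply mul_left_cancel₀ hb
      linear_combination x 0 1 * y1 - y 0 1 * x1
    · apply mul_left_cancel₀ hb
      linear_combination x 0 1 * y2 - y 0 1 * x2
    · apply mul_left_cancel₀ hb
      linear_combination (y 0 0 - y 1 1) * x1 + y 1 0 * x2 + x 0 1 * y3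
  have hc : m 1 0 = 0 := by
    by_contra hb
    apply hxy
    rw [e1]
    refine ⟨?_, ?_, ?_⟩
    · apply mul_left_cancel₀ hb
      linear_combination x 1 0 * y1 - y 1 0 * x1
    · apply mul_left_cancel₀ hb
      linear_combination (y 0 0 - y 1 1) * x1 + y 0 1 * x3 + x 1 0 * y2
    · apply mul_left_cancel₀ hb
      linear_combination x 1 0 * y3 - y 1 0 * x3
  have he : m 0 0 = m 1 1 := by
    by_contra he
    have hb' : m 0 0 - m 1 1 ≠ 0 := sub_ne_zero.2 he
    rw [hb] at x2 y2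
    rw [hc] at x3 y3
    have p1 : x 0 1 = 0 := by
      apply (mul_eq_zero.1 (show (m 0 0 - m 1 1) * x 0 1 = 0 by linear_combination x2)).resolve_left hb'
    have p2 : x 1 0 = 0 := by
      apply (mul_eq_zero.1 (show (m 0 0 - m 1 1) * x 1 0 = 0 by linear_combination -x3)).resolve_left hb'
    have p3 : y 0 1 = 0 := by
      apply (mul_eq_zero.1 (show (m 0 0 - m 1 1) * y 0 1 = 0 by linear_combination y2)).resolve_left hb'
    have p4 : y 1 0 = 0 := by
      apply (mul_eq_zero.1 (show (m 0 0 - m 1 1) * y 1 0 = 0 by linear_combination -y3)).resolve_left hb'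
    apply hxy
    rw [e1]
    rw [p1, p2, p3, p4]
    exact ⟨by ring, by ring, by ring⟩
  refine ⟨m 0 0, ?_⟩
  ext i j
  fin_cases i <;> fin_cases j <;> simp [hb, hc, he]


/-! ### actions by matrices -/

local notation "SL2" => Matrix.SpecialLinearGroup (Fin 2)

section Acts

variable {φ : SL2 F →* K}

/-- `g` acts on the image of `φ` like the matrix `m` -/
def Acts (φ : SL2 F →* K) (g : K) (m : Matrix (Fin 2) (Fin 2) F) : Prop :=
  m.det ≠ 0 ∧ ∀ x y : SL2 F, g * φ x = φ y * g → m * x.1 = y.1 * m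

theorem exists_of_norm {g : K} (hg : g ∈ normalizer ((φ.range : Subgroup K) : Set K)) (x : SL2 F) :
    ∃ y, g * φ x = φ y * g := by
  have h1 : g * φ x * g⁻¹ ∈ φ.range := (mem_normalizer_iff.1 hg _).1 ⟨x, rfl⟩
  obtain ⟨y, hy⟩ := h1
  exact ⟨y, by rw [hy]; group⟩

namespace Acts

variable {g g' : K} {m m' : Matrix (Fin 2) (Fin 2) F}

theorem mul (h : Acts φ g m) (h' : Acts φ g' m') (hg' : g' ∈ normalizer ((φ.range : Subgroup K) : Set K)) :
    Acts φ (g * g') (m * m') := by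
  refine ⟨by rw [det_mul]; exact mul_ne_zero h.1 h'.1, fun x y hxy => ?_⟩
  obtain ⟨v, hv⟩ := exists_of_norm hg' x
  have h1 : g * φ v = φ y * g := by
    apply mul_right_cancel (b := g')
    rw [mul_assoc, ← hv, ← mul_assoc, hxy, mul_assoc]
  rw [mul_assoc, h'.2 _ _ hv, ← mul_assoc, h.2 _ _ h1, mul_assoc]

theorem inv (h : Acts φ g m) : Acts φ g⁻¹ m⁻¹ := by
  have hu : IsUnit m.det := isUnit_iff_ne_zero.2 h.1
  refine ⟨?_, fun x y hxy => ?_⟩
  · rw [det_nonsing_inv, Ring.inverse_eq_inv']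
    exact inv_ne_zero h.1
  · have h1 : g * φ y = φ x * g := by
      calc g * φ y = g * (φ y * g⁻¹) * g := by group
        _ = g * (g⁻¹ * φ x) * g := by rw [hxy]
        _ = φ x * g := by group
    have h2 := h.2 _ _ h1
    have h3 : m⁻¹ * (m * y.1) * m⁻¹ = m⁻¹ * (x.1 * m) * m⁻¹ := by rw [h2]
    rw [← mul_assoc, nonsing_inv_mul _ hu, one_mul] at h3
    rw [← mul_assoc, mul_assoc, mul_nonsing_inv _ hu, mul_one] at h3
    exact h3.symm

theorem of_range (hinj : Function.Injective φ) (q : SL2 F) : Acts φ (φ q) q.1 := by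
  refine ⟨by rw [q.2]; exact one_ne_zero, fun x y hxy => ?_⟩
  rw [← map_mul, ← map_mul] at hxy
  exact congrArg Subtype.val (hinj hxy)

theorem pow (h : Acts φ g m) (hg : g ∈ normalizer ((φ.range : Subgroup K) : Set K)) (hinj : Function.Injective φ)
    (k : ℕ) : Acts φ (g ^ k) (m ^ k) := by
  induction k with
  | zero =>
    rw [pow_zero, pow_zero]
    have := of_range hinj (1 : SL2 F)
    rwa [map_one] at this
  | succ k ih =>
    rw [pow_succ, pow_succ]
    exact ih.mul h hg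

theorem scalar (h : Acts φ g m) {x y : SL2 F} (hx : g * φ x = φ x * g) (hy : g * φ y = φ y * g)
    (hxy : x * y ≠ y * x) : ∃ c : F, m = c • (1 : Matrix (Fin 2) (Fin 2) F) := by
  refine scalar_of_comm (h.2 _ _ hx) (h.2 _ _ hy) (fun h1 => hxy ?_)
  exact Subtype.ext h1

theorem cent {c : F} (h : Acts φ g (c • (1 : Matrix (Fin 2) (Fin 2) F)))
    (hg : g ∈ normalizer ((φ.range : Subgroup K) : Set K)) (x : SL2 F) : g * φ x = φ x * g := by
  obtain ⟨y, hy⟩ := exists_of_norm hg x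
  have h1 := h.2 _ _ hy
  have hc : c ≠ 0 := by
    rintro rfl
    apply h.1
    rw [zero_smul]
    exact det_zero
  have h2 : x.1 = y.1 := by
    rw [smul_mul_assoc, one_mul, mul_smul_comm, mul_one] at h1
    exact smul_right_injective _ hc h1
  have h3 : x = y := Subtype.ext h2
  rw [hy, ← h3]

/-- an element which commutes with two noncommuting elements of the image centralises the image -/
theorem centralizes (h : Acts φ g m) (hg : g ∈ normalizer ((φ.range : Subgroup K) : Set K)) {a b : K}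
    (ha : a ∈ φ.range) (hb : b ∈ φ.range) (hab : a * b ≠ b * a) (hga : g * a = a * g) (hgb : g * b = b * g)
    (x : SL2 F) : g * φ x = φ x * g := by
  obtain ⟨u, rfl⟩ := ha
  obtain ⟨v, rfl⟩ := hb
  obtain ⟨c, rfl⟩ := h.scalar hga hgb (fun h1 => hab (by rw [← map_mul, ← map_mul, h1]))
  exact h.cent hg x

theorem isSquare (hinj : Function.Injective φ) (h : Acts φ g m) {q a b : K}
    (hq : q ∈ φ.range) (ha : a ∈ φ.range) (hb : b ∈ φ.range) (hab : a * b ≠ b * a)
    (hga : q⁻¹ * g * a = a * (q⁻¹ * g)) (hgb : q⁻¹ * g * b = b * (q⁻¹ * g))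
    (hg : g ∈ normalizer ((φ.range : Subgroup K) : Set K)) : IsSquare m.det := by
  obtain ⟨q, rfl⟩ := hq
  obtain ⟨u, rfl⟩ := ha
  obtain ⟨v, rfl⟩ := hb
  have h1 : Acts φ (φ q⁻¹ * g) (q⁻¹.1 * m) := (of_range hinj q⁻¹).mul h hg
  rw [map_inv] at h1
  obtain ⟨c, hc⟩ := h1.scalar hga hgb (fun h1 => hab (by rw [← map_mul, ← map_mul, h1]))
  have h2 := congrArg Matrix.det hc
  rw [det_mul, q⁻¹.2, one_mul, det_smul, det_one, mul_one, Fintype.card_fin] at h2
  exact ⟨c, by rw [h2, pow_two]⟩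

end Acts

end Acts

theorem not_isSquare_pow {d : F} (hd : ¬ IsSquare d) {k : ℕ} (hk : Odd k) (h0 : d ≠ 0) : ¬ IsSquare (d ^ k) := by
  rintro ⟨c, hc⟩
  obtain ⟨j, rfl⟩ := hk
  apply hd
  refine ⟨c / d ^ j, ?_⟩
  have h1 : d ^ j ≠ 0 := pow_ne_zero _ h0
  rw [div_mul_div_comm, ← hc, ← pow_add, eq_div_iff (pow_ne_zero _ h0), ← pow_succ']
  congr 1
  ring

/-! ### the hypotheses -/

section Frame

variable {n : ℕ}

/-- the subgroup centralising all the involutions `φ i (-1)` -/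
def Lam (φ : Fin n → (SL2 F →* K)) : Subgroup K := ⨅ i, centralizer {φ i (-1)}

theorem mem_Lam {φ : Fin n → (SL2 F →* K)} {g : K} : g ∈ Lam φ ↔ ∀ i, g * φ i (-1) = φ i (-1) * g := by
  rw [Lam, mem_iInf]
  exact forall_congr' fun i => mem_centralizer_singleton_iff

/-- **The hypotheses.** -/
structure Frame (φ : Fin n → (SL2 F →* K)) (E : Set (Equiv.Perm (Fin n))) : Prop where
  inj : ∀ i, Function.Injective (φ i)
  comm : ∀ i j, i ≠ j → ∀ x y, φ i x * φ j y = φ j y * φ i x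
  norm : ∀ i g, g * φ i (-1) = φ i (-1) * g → g ∈ normalizer (((φ i).range : Subgroup K) : Set K)
  conj : ∀ i j, ∃ g, cj g (φ i).range = (φ j).range
  acts : ∀ g ∈ Lam φ, ∀ i, ∃ m, Acts (φ i) g m
  cent : ∀ g, (∀ i x, g * φ i x = φ i x * g) → ∀ h ∈ Lam φ, g * h = h * g
  nsq : ∀ i, ∃ g ∈ Lam φ, ∃ m, Acts (φ i) g m ∧ ¬ IsSquare m.det
  perm : ∀ σ ∈ E, ∃ g, ∀ i, cj g (φ i).range = (φ (σ i)).range
  good : PermTwo.Good E

/-- The hypotheses without the existence of elements acting with nonsquare determinant. -/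
structure PFrame (φ : Fin n → (SL2 F →* K)) (E : Set (Equiv.Perm (Fin n))) : Prop where
  inj : ∀ i, Function.Injective (φ i)
  comm : ∀ i j, i ≠ j → ∀ x y, φ i x * φ j y = φ j y * φ i x
  norm : ∀ i g, g * φ i (-1) = φ i (-1) * g → g ∈ normalizer (((φ i).range : Subgroup K) : Set K)
  conj : ∀ i j, ∃ g, cj g (φ i).range = (φ j).range
  acts : ∀ g ∈ Lam φ, ∀ i, ∃ m, Acts (φ i) g m
  cent : ∀ g, (∀ i x, g * φ i x = φ i x * g) → ∀ h ∈ Lam φ, g * h = h * g
  perm : ∀ σ ∈ E, ∃ g, ∀ i, cj g (φ i).range = (φ (σ i)).range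
  good : PermTwo.Good E

theorem Frame.pre {φ : Fin n → (SL2 F →* K)} {E : Set (Equiv.Perm (Fin n))} (H : Frame φ E) : PFrame φ E :=
  ⟨H.inj, H.comm, H.norm, H.conj, H.acts, H.cent, H.perm, H.good⟩

/-- there are elements acting with nonsquare determinant, or the Sylow 2-subgroups of `SL₂(F)` are not of order `8` -/
def NSQ (φ : Fin n → (SL2 F →* K)) (i : Fin n) : Prop :=
  (∃ g ∈ Lam φ, ∃ m, Acts (φ i) g m ∧ ¬ IsSquare m.det) ∨ 16 ∣ Nat.card (SL2 F)

/-- the stabiliser of the frame -/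
def stab (φ : Fin n → (SL2 F →* K)) : Subgroup K where
  carrier := {g | ∃ σ : Equiv.Perm (Fin n), ∀ i, cj g (φ i).range = (φ (σ i)).range}
  mul_mem' := by
    rintro a b ⟨σ, hσ⟩ ⟨τ, hτ⟩
    refine ⟨σ * τ, fun i => ?_⟩
    rw [cj_mul, hτ, hσ]
    rfl
  one_mem' := ⟨1, fun i => cj_one _⟩
  inv_mem' := by
    rintro a ⟨σ, hσ⟩
    refine ⟨σ⁻¹, fun i => ?_⟩
    have h1 := hσ (σ⁻¹ i)
    rw [show σ (σ⁻¹ i) = i from σ.apply_symm_apply i] at h1
    rw [← h1, cj_inv_cj]

theorem mem_stab {φ : Fin n → (SL2 F →* K)} {g : K} :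
    g ∈ stab φ ↔ ∃ σ : Equiv.Perm (Fin n), ∀ i, cj g (φ i).range = (φ (σ i)).range := Iff.rfl

/-- the permutation of the frame -/
noncomputable def ppi (φ : Fin n → (SL2 F →* K)) (hφ : ∀ i j, (φ i).range = (φ j).range → i = j) :
    stab φ →* Equiv.Perm (Fin n) :=
  MonoidHom.mk' (fun g => (mem_stab.1 g.2).choose) fun a b => by
    ext i
    congr 1
    apply hφ
    have h1 := (mem_stab.1 (a * b).2).choose_spec i
    have h2 := (mem_stab.1 b.2).choose_spec i
    have h3 := (mem_stab.1 a.2).choose_spec ((mem_stab.1 b.2).choose i)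
    rw [← h1]
    show cj ((a : K) * b) _ = _
    rw [cj_mul, h2, h3]
    rfl

theorem ppi_spec {φ : Fin n → (SL2 F →* K)} (hφ : ∀ i j, (φ i).range = (φ j).range → i = j) (g : stab φ) (i : Fin n) :
    cj (g : K) (φ i).range = (φ (ppi φ hφ g i)).range := (mem_stab.1 g.2).choose_spec i

/-- a Sylow 2-subgroup which meets `Λ` in a Sylow 2-subgroup -/
theorem exists_sylow [Finite K] (L : Subgroup K) :
    ∃ T : Sylow 2 K, ∀ R : Subgroup K, R ≤ L → IsPGroup 2 R → ∃ l ∈ L, cj l R ≤ T := by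
  haveI : Fact (Nat.Prime 2) := ⟨Nat.prime_two⟩
  obtain ⟨P⟩ : Nonempty (Sylow 2 L) := inferInstance
  obtain ⟨T, hT⟩ := (P.isPGroup'.map L.subtype).exists_le_sylow
  refine ⟨T, fun R hR h2 => ?_⟩
  have h3 : IsPGroup 2 (R.subgroupOf L) := h2.comap_subtype
  obtain ⟨Q, hQ⟩ := h3.exists_le_sylow
  obtain ⟨l, hl⟩ := MulAction.exists_smul_eq L Q P
  refine ⟨l, l.2, ?_⟩
  rintro _ ⟨r, hr, rfl⟩
  apply hT
  have h4 : (⟨r, hR hr⟩ : L) ∈ (Q : Subgroup L) := hQ hr
  have h5 : l * ⟨r, hR hr⟩ * l⁻¹ ∈ ((l • Q : Sylow 2 L) : Subgroup L) := by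
    rw [Sylow.coe_subgroup_smul]
    exact Subgroup.smul_mem_pointwise_smul _ (MulAut.conj l) _ h4
  rw [hl] at h5
  exact ⟨_, h5, rfl⟩

namespace PFrame

variable {φ : Fin n → (SL2 F →* K)} {E : Set (Equiv.Perm (Fin n))} (H : PFrame φ E)

theorem z_comm (i : Fin n) (x : SL2 F) : φ i x * φ i (-1) = φ i (-1) * φ i x := by
  rw [← map_mul, ← map_mul, mul_neg, neg_mul, mul_one, one_mul]

include H

theorem range_le (i : Fin n) : (φ i).range ≤ Lam φ := by
  rintro _ ⟨x, rfl⟩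
  rw [mem_Lam]
  intro j
  by_cases hij : i = j
  · subst hij
    exact z_comm i x
  · exact H.comm i j hij x _

theorem lam_norm (i : Fin n) : Lam φ ≤ normalizer (((φ i).range : Subgroup K) : Set K) :=
  fun g hg => H.norm i g (mem_Lam.1 hg i)

theorem mem_cls (i j : Fin n) : (φ j).range ∈ cls (φ i).range := by
  obtain ⟨g, hg⟩ := H.conj i j
  exact ⟨g, hg.symm⟩

variable [Fintype F] (hF : Odd (Fintype.card F))

include hF

theorem orderOf_z (i : Fin n) : orderOf (φ i (-1)) = 2 := by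
  rw [orderOf_injective _ (H.inj i), TwoFusion.QuatCoverSL.orderOf_neg_one hF]

theorem uniq (i : Fin n) {t : K} (ht : t ∈ (φ i).range) (h2 : orderOf t = 2) : t = φ i (-1) := by
  obtain ⟨x, rfl⟩ := ht
  rw [orderOf_injective _ (H.inj i)] at h2
  rw [TwoFusion.QuatCoverSL.eq_neg_one_of_orderOf_two hF x h2]

theorem hyp [Finite K] (i : Fin n) : Hyp (cls (φ i).range) ∧ zz (φ i).range = φ i (-1) := by
  haveI : Fact (Nat.Prime 2) := ⟨Nat.prime_two⟩
  have hle : centralizer ({φ i (-1)} : Set K) ≤ normalizer (((φ i).range : Subgroup K) : Set K) := by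
    intro g hg
    exact H.norm i g (mem_centralizer_singleton_iff.1 hg)
  refine hyp_of_class (φ i (-1)) (H.orderOf_z hF i) _ ⟨-1, rfl⟩ ?_ ?_ (fun t ht h2 => H.uniq hF i ht h2) ?_ ?_
  · haveI : ((φ i).range.subgroupOf (centralizer ({φ i (-1)} : Set K))).Normal := by
      rw [normal_subgroupOf_iff_le_normalizer]
      · exact hle
      · rintro _ ⟨x, rfl⟩
        rw [mem_centralizer_singleton_iff]
        exact z_comm i x
    exact Subgroup.Normal.isSubnormal inferInstance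
  · obtain ⟨P⟩ : Nonempty (Sylow 2 (SL2 F)) := inferInstance
    obtain ⟨k, hk, ⟨e⟩⟩ := S0261.result hF P
    let f : SL2 F ≃* (φ i).range := MonoidHom.ofInjective (H.inj i)
    refine ⟨(P.isPGroup'.map f.toMonoidHom).toSylow ?_, k - 1, ⟨?_⟩⟩
    · have h5 : ((P : Subgroup (SL2 F)).map f.toMonoidHom).index = (P : Subgroup (SL2 F)).index :=
        Subgroup.index_map_equiv _ f
      rw [h5]
      exact P.not_dvd_index
    · rw [Nat.sub_add_cancel hk]
      exact (((P : Subgroup (SL2 F)).equivMapOfInjective _ f.injective).symm).trans e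
  · intro u hu
    left
    exact mem_normalizer_iff_cj.1 (hle hu)
  · intro y _ g _ _ hg
    exact hle hg


theorem zz_eq [Finite K] (i : Fin n) : zz (φ i).range = φ i (-1) := (H.hyp hF i).2

theorem range_inj [Finite K] {i j : Fin n} (h : (φ i).range = (φ j).range) : i = j := by
  by_contra hij
  obtain ⟨Q, hQ⟩ := Hyp.exists_syl (φ i).range
  have h1 := (H.hyp hF i).1.isGQ (self_mem_cls _) hQ
  have h2 : AutQuat.IsQ Q := h1
  obtain ⟨x, hx, hx4⟩ := h2.exists_four
  obtain ⟨y, hy, hxy⟩ := h2.exists_inverts x hx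
  obtain ⟨u, hu⟩ := hQ.1 hx
  have h3 := hQ.1 hy
  rw [h] at h3
  obtain ⟨v, hv⟩ := h3
  have h4 := H.comm i j hij u v
  rw [hu, hv] at h4
  have h5 : x = x⁻¹ := by
    rw [← hxy, ← h4]
    group
  have h6 : x ^ 2 = 1 := by rw [pow_two]; nth_rewrite 2 [h5]; exact mul_inv_cancel x
  have h7 := orderOf_dvd_of_pow_eq_one h6
  rw [hx4] at h7
  omega


theorem lam_le_stab : Lam φ ≤ stab φ := fun _ hg =>
  ⟨1, fun i => mem_normalizer_iff_cj.1 (H.lam_norm i hg)⟩

theorem mem_lam_of_perm [Finite K] {hφ : ∀ i j, (φ i).range = (φ j).range → i = j} {g : stab φ} (hg : ppi φ hφ g = 1) :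
    (g : K) ∈ Lam φ := by
  rw [mem_Lam]
  intro i
  have h1 := ppi_spec hφ g i
  rw [hg] at h1
  have h2 : (g : K) ∈ normalizer (((φ i).range : Subgroup K) : Set K) := mem_normalizer_iff_cj.2 h1
  have h3 := (H.hyp hF i).1.comm_zz (self_mem_cls _) h2
  rwa [H.zz_eq hF i] at h3

/-! ### the 2-components of `T` -/

section

variable [Finite K] (T : Sylow 2 K)
  (hT : ∀ R : Subgroup K, R ≤ Lam φ → IsPGroup 2 R → ∃ l ∈ Lam φ, cj l R ≤ T)

include hT

theorem mem_OmS (i₀ i : Fin n) : (φ i).range ∈ OmS (cls (φ i₀).range) (T : Subgroup K) := by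
  obtain ⟨Q, hQ⟩ := Hyp.exists_syl (φ i).range
  obtain ⟨l, hl, h1⟩ := hT Q (hQ.1.trans (H.range_le i)) hQ.2.1
  have h2 := hQ.cj l
  rw [mem_normalizer_iff_cj.1 (H.lam_norm i hl)] at h2
  exact mem_OmS_of_le (H.mem_cls i₀ i) h2 h1

theorem isQ (i : Fin n) : AutQuat.IsQ ((φ i).range ⊓ (T : Subgroup K)) :=
  (H.hyp hF i).1.isGQ (self_mem_cls _) (syl_inf T.isPGroup' (H.mem_OmS hF T hT i i))

theorem eq_of_mem_OmS (i₀ : Fin n) {L : Subgroup K} (hL : L ∈ OmS (cls (φ i₀).range) (T : Subgroup K)) :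
    ∃ i, L = (φ i).range := by
  by_contra hcon
  push Not at hcon
  have hyp := (H.hyp hF i₀).1
  have hLQ : AutQuat.IsQ (L ⊓ (T : Subgroup K)) := hyp.isGQ hL.1 (syl_inf T.isPGroup' hL)
  obtain ⟨a, ha, b, hb, hab⟩ := exists_pair hLQ
  have hc : ∀ a ∈ L ⊓ (T : Subgroup K), ∀ i, ∀ q ∈ (φ i).range ⊓ (T : Subgroup K), a * q = q * a :=
    fun a ha i q hq => hyp.comm T.isPGroup' hL (H.mem_OmS hF T hT i₀ i) (hcon i) ha hq
  have hlam : ∀ a ∈ L ⊓ (T : Subgroup K), a ∈ Lam φ := by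
    intro a ha
    rw [mem_Lam]
    intro i
    have h1 := hyp.zz_mem_inf T.isPGroup' (H.mem_OmS hF T hT i₀ i)
    rw [H.zz_eq hF i] at h1
    exact hc a ha i _ h1
  refine hab (H.cent a (fun i x => ?_) b (hlam b hb))
  obtain ⟨m, hm⟩ := H.acts a (hlam a ha) i
  obtain ⟨u, hu, v, hv, huv⟩ := exists_pair (H.isQ hF T hT i)
  exact hm.centralizes (H.lam_norm i (hlam a ha)) hu.1 hv.1 huv (hc a ha i u hu) (hc a ha i v hv) x

theorem le_stab (i₀ : Fin n) : normalizer ((T : Subgroup K) : Set K) ≤ stab φ := by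
  intro w hw
  have h1 : ∀ i, ∃ j, cj w (φ i).range = (φ j).range := fun i =>
    H.eq_of_mem_OmS hF T hT i₀ (cj_mem_OmS' (H.hyp hF i₀).1.conj hw (H.mem_OmS hF T hT i₀ i))
  choose f hf using h1
  have hinj : Function.Injective f := by
    intro i j hij
    apply H.range_inj hF
    have h2 : cj w (φ i).range = cj w (φ j).range := by rw [hf, hf, hij]
    exact cj_inj.1 h2
  exact ⟨Equiv.ofBijective f (Finite.injective_iff_bijective.1 hinj), hf⟩

/-- elements of odd order of `N(T)` act trivially on the frame -/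
theorem mem_lam_of_odd (i₀ : Fin n) {w : K} (hw : w ∈ normalizer ((T : Subgroup K) : Set K)) (ho : Odd (orderOf w)) :
    w ∈ Lam φ := by
  haveI : Fact (Nat.Prime 2) := ⟨Nat.prime_two⟩
  have hφ : ∀ i j, (φ i).range = (φ j).range → i = j := fun i j h => H.range_inj hF h
  have hM := H.le_stab hF T hT i₀
  have hTM : (T : Subgroup K) ≤ stab φ := le_normalizer.trans hM
  set π := ppi φ hφ with hπ
  have hE : closure E ≤ π.range := by
    rw [closure_le]
    intro σ hσ
    obtain ⟨g, hg⟩ := H.perm σ hσ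
    refine ⟨⟨g, mem_stab.2 ⟨σ, hg⟩⟩, ?_⟩
    ext i
    congr 1
    apply hφ
    rw [← hg i]
    exact (ppi_spec hφ _ i).symm
  obtain ⟨R, hR, hCR⟩ := exists_two_lift π (closure E) H.good.1 hE
  have hwM : w ∈ stab φ := hM hw
  have hwn : (⟨w, hwM⟩ : stab φ) ∈ normalizer (((T.subtype hTM : Sylow 2 (stab φ)) : Subgroup (stab φ)) :
      Set (stab φ)) := by
    rw [mem_normalizer_iff]
    intro x
    exact mem_normalizer_iff.1 hw x
  have h3 : π ⟨w, hwM⟩ = 1 := by
    refine odd_map π (T.subtype hTM) hwn ?_ hR (fun S hS hRS => H.good.2 S hS ?_)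
    · rw [Subgroup.orderOf_mk]
      exact ho
    · exact fun σ hσ => hRS (hCR (subset_closure hσ))
  exact H.mem_lam_of_perm hF h3

/-- some element of `T ∩ Λ` acts on `J i` with nonsquare determinant -/
theorem exists_nsq (i : Fin n) (hn : ∃ g ∈ Lam φ, ∃ m, Acts (φ i) g m ∧ ¬ IsSquare m.det) :
    ∃ t ∈ Lam φ, t ∈ (T : Subgroup K) ∧ ∃ m, Acts (φ i) t m ∧ ¬ IsSquare m.det := by
  obtain ⟨g, hg, m, hm, hns⟩ := hn
  set k := orderOf g / 2 ^ (orderOf g).factorization 2 with hk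
  have h0 : orderOf g ≠ 0 := (orderOf_pos g).ne'
  have hodd : Odd k := by
    rw [← Nat.not_even_iff_odd, even_iff_two_dvd]
    exact Nat.not_dvd_ordCompl Nat.prime_two h0
  have hmul : 2 ^ (orderOf g).factorization 2 * k = orderOf g := Nat.ordProj_mul_ordCompl_eq_self _ _
  have h2 : IsPGroup 2 (zpowers (g ^ k)) := by
    have h3 : (g ^ k) ^ 2 ^ (orderOf g).factorization 2 = 1 := by
      rw [← pow_mul, mul_comm, hmul, pow_orderOf_eq_one]
    obtain ⟨b, _, hb⟩ := (Nat.dvd_prime_pow Nat.prime_two).1 (orderOf_dvd_of_pow_eq_one h3)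
    exact IsPGroup.of_card (n := b) (by rw [Nat.card_zpowers, hb])
  obtain ⟨l, hl, hlT⟩ := hT _ (by rw [zpowers_le]; exact pow_mem hg k) h2
  obtain ⟨m', hm'⟩ := H.acts l hl i
  have hN := H.lam_norm i
  refine ⟨l * g ^ k * l⁻¹, mul_mem (mul_mem hl (pow_mem hg k)) (inv_mem hl), ?_, m' * m ^ k * m'⁻¹, ?_, ?_⟩
  · exact hlT (conj_mem_cj (mem_zpowers _))
  · exact (hm'.mul (hm.pow (hN hg) (H.inj i) k) (hN (pow_mem hg k))).mul hm'.inv (hN (inv_mem hl))
  · have e1 : (m' * m ^ k * m'⁻¹).det = m.det ^ k := by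
      rw [det_mul, det_mul, det_pow, det_nonsing_inv, Ring.inverse_eq_inv']
      have := hm'.1
      field_simp
    rw [e1]
    exact not_isSquare_pow hns hodd hm.1

theorem card_inf_ne (i : Fin n) (h16 : 16 ∣ Nat.card (SL2 F)) :
    Nat.card (((φ i).range ⊓ (T : Subgroup K) : Subgroup K)) ≠ 8 := by
  intro h8
  obtain ⟨h1, -, h2⟩ := syl_inf T.isPGroup' (H.mem_OmS hF T hT i i)
  have h3 : Nat.card (φ i).range = Nat.card (SL2 F) :=
    (Nat.card_congr (MonoidHom.ofInjective (H.inj i)).toEquiv).symm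
  have h4 := relIndex_mul_relIndex ⊥ _ _ bot_le h1
  rw [relIndex_bot_left, relIndex_bot_left] at h4
  rw [h8, h3] at h4
  obtain ⟨c, hc⟩ := h16
  apply h2
  exact ⟨c, by omega⟩

/-- elements of odd order of `N(T)` centralise `J i ⊓ T` -/
theorem centralizes_inf (i : Fin n) (hns : NSQ φ i) {w : K} (hw : w ∈ normalizer ((T : Subgroup K) : Set K)) (ho : Odd (orderOf w))
    (hwL : w ∈ Lam φ) : ∀ x ∈ (φ i).range ⊓ (T : Subgroup K), w * x = x * w := by
  have hQ := H.isQ hF T hT i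
  have hnorm : ∀ g, g ∈ Lam φ → g ∈ normalizer ((T : Subgroup K) : Set K) →
      g ∈ normalizer ((((φ i).range ⊓ (T : Subgroup K) : Subgroup K)) : Set K) := by
    intro g h1 h2
    rw [mem_normalizer_iff_cj, cj_inf, mem_normalizer_iff_cj.1 h2, mem_normalizer_iff_cj.1 (H.lam_norm i h1)]
  refine centralizes_of hQ (hnorm w hwL hw) ho fun h8 => ?_
  have hns' := hns.resolve_right fun h16 => H.card_inf_ne hF T hT i h16 h8
  obtain ⟨x, hx, hx4, hxc, hP⟩ := hQ.exists_cyclic (P := (T : Subgroup K) ⊓ Lam φ) (T.isPGroup'.to_le inf_le_left)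
    (fun g hg => hnorm g hg.2 (le_normalizer hg.1))
  have hx4 : orderOf x = 4 := by omega
  have hconj : ∀ g u : K, orderOf (g * u * g⁻¹) = orderOf u := fun g u => (MulAut.conj g).orderOf_eq u
  have hPx : ∀ p ∈ (T : Subgroup K) ⊓ Lam φ, p * x * p⁻¹ = x ∨ p * x * p⁻¹ = x⁻¹ := fun p hp =>
    of_mem_zpowers hx4 (by rw [hconj, hx4]) (hP p hp)
  have hsq : ∀ u : K, orderOf u = 4 → u * u ≠ 1 := by
    intro u hu h
    have := orderOf_dvd_of_pow_eq_one (by rw [pow_two]; exact h : u ^ 2 = 1)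
    rw [hu] at this
    omega
  refine ⟨x, hx, hsq x hx4, ?_⟩
  by_contra hcon
  push Not at hcon
  have hy : w * x * w⁻¹ ∈ (φ i).range ⊓ (T : Subgroup K) := (mem_normalizer_iff.1 (hnorm w hwL hw) x).1 hx
  have hy4 : orderOf (w * x * w⁻¹) = 4 := by rw [hconj, hx4]
  have hPy : ∀ p ∈ (T : Subgroup K) ⊓ Lam φ, p * (w * x * w⁻¹) * p⁻¹ = w * x * w⁻¹ ∨
      p * (w * x * w⁻¹) * p⁻¹ = (w * x * w⁻¹)⁻¹ := by
    intro p hp
    have h1 : w⁻¹ * p * w ∈ (T : Subgroup K) ⊓ Lam φ := by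
      refine ⟨?_, (Lam φ).mul_mem ((Lam φ).mul_mem ((Lam φ).inv_mem hwL) hp.2) hwL⟩
      have hwi : w⁻¹ ∈ normalizer ((T : Subgroup K) : Set K) := inv_mem hw
      have := (mem_normalizer_iff.1 hwi p).1 hp.1
      rwa [inv_inv] at this
    have e1 : p * (w * x * w⁻¹) * p⁻¹ = w * ((w⁻¹ * p * w) * x * (w⁻¹ * p * w)⁻¹) * w⁻¹ := by group
    rw [e1]
    rcases hPx _ h1 with h2 | h2
    · left; rw [h2]
    · right; rw [h2]; group
  obtain ⟨h1, h2⟩ := pair_of_card hQ h8 hx hy (hsq x hx4) (hsq _ hy4) hcon.1 hcon.2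
  obtain ⟨t, htL, htT, m, hm, hns⟩ := H.exists_nsq hF T hT i hns'
  obtain ⟨q, hq, hqx, hqy⟩ := exists_inner hx hy h1 h2 (hPx t ⟨htT, htL⟩) (hPy t ⟨htT, htL⟩)
  refine hns (hm.isSquare (H.inj i) hq.1 hx.1 hy.1 ?_ hqx hqy (H.lam_norm i htL))
  intro h3
  apply hsq _ hy4
  rw [h3] at h1
  have h4 : w * x * w⁻¹ = (w * x * w⁻¹)⁻¹ := by
    rw [← h1]; group
  nth_rewrite 2 [h4]
  exact mul_inv_cancel _

/-- **Main**: elements of odd order of `N(T)` centralise `T` -/
theorem centralizes_T (hns : ∀ i, NSQ φ i) (i₀ : Fin n) {w : K} (hw : w ∈ normalizer ((T : Subgroup K) : Set K)) (ho : Odd (orderOf w)) :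
    ∀ t ∈ (T : Subgroup K), w * t = t * w := by
  have hφ : ∀ i j, (φ i).range = (φ j).range → i = j := fun i j h => H.range_inj hF h
  have hwL := H.mem_lam_of_odd hF T hT i₀ hw ho
  have hwJ : ∀ i x, w * φ i x = φ i x * w := by
    intro i x
    obtain ⟨m, hm⟩ := H.acts w hwL i
    obtain ⟨a, ha, b, hb, hab⟩ := exists_pair (H.isQ hF T hT i)
    have hc := H.centralizes_inf hF T hT i (hns i) hw ho hwL
    exact hm.centralizes (H.lam_norm i hwL) ha.1 hb.1 hab (hc a ha) (hc b hb) x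
  have hwc := H.cent w hwJ
  intro t ht
  have htM : t ∈ stab φ := H.le_stab hF T hT i₀ (le_normalizer ht)
  have hlam1 : ∀ (l : K) (hl : l ∈ Lam φ), ppi φ hφ ⟨l, H.lam_le_stab hF hl⟩ = 1 := by
    intro l hl
    ext i
    congr 1
    apply hφ
    rw [← ppi_spec hφ ⟨l, H.lam_le_stab hF hl⟩ i]
    exact mem_normalizer_iff_cj.1 (H.lam_norm i hl)
  set u := w * t * w⁻¹ * t⁻¹ with hu
  have huT : u ∈ (T : Subgroup K) := mul_mem ((mem_normalizer_iff.1 hw t).1 ht) (inv_mem ht)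
  have huL : u ∈ Lam φ := by
    have h1 : ppi φ hφ (⟨w, H.lam_le_stab hF hwL⟩ * ⟨t, htM⟩ * (⟨w, H.lam_le_stab hF hwL⟩)⁻¹ * (⟨t, htM⟩)⁻¹) = 1 := by
      rw [map_mul, map_mul, map_mul, map_inv, map_inv, hlam1 w hwL]
      group
    exact H.mem_lam_of_perm hF h1
  have hcomm : w * u = u * w := hwc u huL
  have hut : w * t = u * t * w := by rw [hu]; group
  have hpow : ∀ k : ℕ, w ^ k * t = u ^ k * t * w ^ k := by
    intro k
    induction k with
    | zero => simp
    | succ k ih =>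
      have hck : w ^ k * u = u * w ^ k := (Commute.pow_left hcomm k)
      have hcu : w * u ^ k = u ^ k * w := (Commute.pow_right hcomm k)
      calc w ^ (k + 1) * t = w * (w ^ k * t) := by rw [pow_succ']; group
        _ = w * (u ^ k * t * w ^ k) := by rw [ih]
        _ = (w * u ^ k) * t * w ^ k := by group
        _ = u ^ k * (w * t) * w ^ k := by rw [hcu]; group
        _ = u ^ k * (u * t * w) * w ^ k := by rw [hut]
        _ = u ^ (k + 1) * t * w ^ (k + 1) := by rw [pow_succ, pow_succ']; group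
  have h1 := hpow (orderOf w)
  rw [pow_orderOf_eq_one, one_mul, mul_one] at h1
  have h2 : u ^ orderOf w = 1 := (mul_eq_right.1 h1.symm)
  obtain ⟨j, hj⟩ := T.isPGroup' ⟨u, huT⟩
  have h3 : u = 1 := eq_one_of_coprime ho h2 (congrArg Subtype.val hj)
  rw [h3, one_mul] at hut
  exact hut

end

/-- **The result.** -/
theorem oddRow [Finite K] (hns : ∀ i, NSQ φ i) (i₀ : Fin n) : H747.OddRow K := by
  obtain ⟨T, hT⟩ := exists_sylow (Lam φ)
  exact H747.OddRow.of_centralizes T fun g hg ho s hs => H.centralizes_T hF T hT hns i₀ hg ho s hs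

end PFrame

/-- **The result** for frames. -/
theorem Frame.oddRow {φ : Fin n → (SL2 F →* K)} {E : Set (Equiv.Perm (Fin n))} (H : Frame φ E) [Fintype F]
    (hF : Odd (Fintype.card F)) [Finite K] (i₀ : Fin n) : H747.OddRow K :=
  H.pre.oddRow hF (fun i => Or.inl (H.nsq i)) i₀

end Frame

end Cfsg.Agent.H745.RowAbs
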