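import Cfsg.Agent.H745.TorSL
import Cfsg.Agent.Nodes.FrameCent
import Cfsg.Agent.OddHalf.LongSL.OfCls
import Cfsg.Agent.Cit.LongConj

/-!
# Frames of `SL₂(q)` from classical root groups (helper745, for S5161)

`oddRow_of_cls` : `OddRow` from the data `Cls`, a frame of classical roots orthogonal to no root and permutations of it.
-/

set_option autoImplicit false
set_option linter.unusedSectionVars false
set_option linter.style.haveILetI false

namespace Cfsg.Agent.H745.RowCls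

open CoxeterSystem Cfsg.Agent.ChevalleyStructure.CoxeterGeom Cfsg.Agent.Tits.Roots Cfsg.Agent.Tits.Core
  Cfsg.Agent.Tits.RootComb Cfsg.Agent.Nodes.Comb Cfsg.Agent.Nodes.Reps Cfsg.Agent.Nodes.BNOf
  Cfsg.Agent.Nodes.RGDLib Cfsg.Agent.Nodes.Chart Cfsg.Agent.Nodes.StabComb Cfsg.Agent.Nodes.Bruhat
  Cfsg.Agent.Nodes.ClsNorm Cfsg.Agent.Nodes.SubComb Cfsg.Agent.Nodes.Coroot Cfsg.Agent.Nodes.KindBase
  Cfsg.Agent.Nodes.Perp

local notation "SL2" => Matrix.SpecialLinearGroup (Fin 2)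

universe u v

variable {I W : Type u} {Y : Type v} [Fintype I] [DecidableEq I] [Group W] [Fintype W] [Group Y]
  {M : CoxeterMatrix I} {cs : CoxeterSystem M W} {A : I → I → ℤ} {h : IsCartan M A} {p : ℕ} {T : Subgroup Y}
  {n : I → Y} {X : (I → ℤ) → Subgroup Y} {R : Set (I → ℤ)} {Z : (I → ℤ) → Subgroup Y} {z : (I → ℤ) → Y}
  (C : Cls cs h p T n X R Z z)

include C

theorem eq_one_of_sq (hp2 : Odd p) {x : I → ℤ} (hx : IsRoot cs h x) {a : Y} (ha : a ∈ X x) (h2 : a * a = 1) : a = 1 := by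
  obtain ⟨k, hk⟩ := C.rgd.pgrp' hx ⟨a, ha⟩
  have h6 : a ^ p ^ k = 1 := congrArg Subtype.val hk
  have h7 : orderOf a ∣ 2 := orderOf_dvd_of_pow_eq_one (by rw [pow_two, h2])
  have h8 : orderOf a ∣ p ^ k := orderOf_dvd_of_pow_eq_one h6
  have h9 : orderOf a ∣ 1 := by
    have hc : Nat.Coprime 2 (p ^ k) := Nat.Coprime.pow_right _ (Nat.coprime_two_left.2 hp2)
    rw [← hc]
    exact Nat.dvd_gcd h7 h8
  rwa [Nat.dvd_one, orderOf_eq_one_iff] at h9

/-- an element of `X x` inverted and centralised by `z r` is trivial -/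
theorem eq_one_of_inv (hp2 : Odd p) {r : I → ℤ} (hr : r ∈ R) {x : I → ℤ} (hx : IsRoot cs h x) {a : Y} (ha : a ∈ X x)
    (h1 : z r * a * z r = a⁻¹) (h2 : z r * a = a * z r) : a = 1 := by
  apply eq_one_of_sq C hp2 hx ha
  rw [h2, mul_assoc, C.z_sq r hr, mul_one] at h1
  nth_rewrite 1 [h1]
  exact inv_mul_cancel a

theorem z_comm_of_orth {r : I → ℤ} (hr : r ∈ R) {x : I → ℤ} (hx : IsRoot cs h x) (h0 : form cs h x r = 0) {a : Y}
    (ha : a ∈ X x) {b : Y} (hb : b ∈ KK Z r) : a * b = b * a := by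
  have h4 : ∀ v ∈ Z r, a * v = v * a := fun v hv => C.cent r hr x hx h0.ge a ha v hv
  have h5 : ∀ v ∈ Z (-r), a * v = v * a := fun v hv =>
    C.cent (-r) (Cfsg.Agent.Nodes.ClsNorm.neg_mem C hr) x hx (by rw [form_neg_right, h0, neg_zero]) a ha v hv
  have h6 : KK Z r ≤ Subgroup.centralizer ({a} : Set Y) := by
    refine sup_le ?_ ?_
    · intro v hv
      rw [Subgroup.mem_centralizer_iff]; rintro _ rfl; exact h4 v hv
    · intro v hv
      rw [Subgroup.mem_centralizer_iff]; rintro _ rfl; exact h5 v hv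
  exact Subgroup.mem_centralizer_iff.1 (h6 hb) a rfl

/-- the centralizer of `z r` in a root group not equal to `± r` -/
theorem eq_one_or_comm (hp2 : Odd p) {r : I → ℤ} (hr : r ∈ R) {x : I → ℤ} (hx : IsRoot cs h x) (h1 : x ≠ r)
    (h2 : x ≠ -r) {a : Y} (ha : a ∈ X x) (hz : z r * a = a * z r) : a = 1 ∨ form cs h x r = 0 := by
  by_cases h3 : form cs h x r = 0
  · exact Or.inr h3
  · exact Or.inl (eq_one_of_inv C hp2 hr hx ha (C.z_inv r hr x hx h1 h2 h3 a ha) hz)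

variable {m : ℕ} {fr : Fin m → I → ℤ}

/-- **`z r` determines `± r`.** -/
theorem z_sep (hp2 : Odd p) (Fs : FrameSys cs h R fr)
    (hsep : ∀ k l, k ≠ l → ∃ y, IsRoot cs h y ∧ y ≠ fr k ∧ y ≠ -fr k ∧ form cs h y (fr k) ≠ 0 ∧ form cs h y (fr l) = 0)
    {r s : I → ℤ} (hr : r ∈ R) (hs : s ∈ R) (hz : z r = z s) : s = r ∨ s = -r := by
  by_contra hcon
  push Not at hcon
  obtain ⟨h1, h2⟩ := hcon
  have h0 : form cs h s r = 0 := by
    by_contra h0
    apply C.ne_bot s hs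
    rw [Subgroup.eq_bot_iff_forall]
    intro b hb
    refine eq_one_of_inv C hp2 hr (C.root s hs) (C.le s hs hb) (C.z_inv r hr s (C.root s hs) h1 h2 h0 b (C.le s hs hb)) ?_
    rw [hz]
    exact C.z_cent s hs b hb
  have hc : cpr cs h s r = 0 := by rw [cpr_zero_iff cs h s (C.root r hr)]; exact h0
  have hc' : cpr cs h r s = 0 := (cpr_zero_comm cs h (C.root r hr) (C.root s hs)).2 hc
  obtain ⟨w, f, hf⟩ := Fs.exists_move ![r, s] (by intro i; fin_cases i <;> assumption) (by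
    intro i j hij
    fin_cases i <;> fin_cases j
    · exact absurd rfl hij
    · exact hc'
    · exact hc
    · exact absurd rfl hij)
  have f0 : rep cs h w r = fr (f 0) := hf 0
  have f1 : rep cs h w s = fr (f 1) := hf 1
  have hne : f 0 ≠ f 1 := by
    intro he
    apply h1
    apply rep_injective_apply cs h w
    rw [f0, f1, he]
  obtain ⟨k, hk⟩ := exists_rp cs C.rgd.nsys w
  have e0 := conj_z C hk hr
  have e1 := conj_z C hk hs
  rw [hz, e1, f0, f1] at e0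
  obtain ⟨y, hy, hy1, hy2, hy3, hy4⟩ := hsep (f 0) (f 1) hne
  apply Cfsg.Agent.Nodes.StdConn.X_ne_bot C hy
  rw [Subgroup.eq_bot_iff_forall]
  intro a ha
  have hz0 := C.z_inv (fr (f 0)) (Fs.mem _) y hy hy1 hy2 hy3 a ha
  refine eq_one_of_inv C hp2 (Fs.mem (f 0)) hy ha hz0 ?_
  rw [← e0]
  exact (z_comm_of_orth C (Fs.mem (f 1)) hy hy4 ha (C.z_mem _ (Fs.mem (f 1)))).symm

/-- **The centralizer of `z r` normalises `KK r`.** -/
theorem norm (hp2 : Odd p) (hG : GG cs h T X = ⊤) (hsep : ∀ r ∈ R, ∀ s ∈ R, z r = z s → s = r ∨ s = -r)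
    {r : I → ℤ} (hr : r ∈ R) {g : Y} (hg : g * z r = z r * g) : g ∈ Subgroup.normalizer (KK Z r : Set Y) := by
  have hS : ({z r} : Set Y) ⊆ T := by rintro _ rfl; exact C.z_torus r hr
  have hX : ∀ x, IsRoot cs h x → X x ⊓ Subgroup.centralizer ({z r} : Set Y) ≤ Subgroup.normalizer (KK Z r : Set Y) := by
    intro x hx a ha
    have hza : z r * a = a * z r := Subgroup.mem_centralizer_iff.1 ha.2 _ rfl
    by_cases h1 : x = r
    · subst h1
      have h3 : a ∈ OddHalf.LongSL.ZX X (z x) x := OddHalf.LongSL.mem_ZX.2 ⟨ha.1, hza⟩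
      rw [OddHalf.LongSL.ZX_eq C hp2 hr] at h3
      exact Subgroup.le_normalizer (le_sup_left (a := Z x) h3)
    by_cases h2 : x = -r
    · subst h2
      have h3 : a ∈ OddHalf.LongSL.ZX X (z (-r)) (-r) := OddHalf.LongSL.mem_ZX.2 ⟨ha.1, by rw [C.z_neg r hr]; exact hza⟩
      rw [OddHalf.LongSL.ZX_eq C hp2 (Cfsg.Agent.Nodes.ClsNorm.neg_mem C hr)] at h3
      exact Subgroup.le_normalizer (le_sup_right (a := Z r) h3)
    rcases eq_one_or_comm C hp2 hr hx h1 h2 ha.1 hza with h3 | h3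
    · rw [h3]; exact one_mem _
    · refine centralizer_le_normalizer' _ (Subgroup.mem_centralizer_iff.2 fun b hb => ?_)
      exact (z_comm_of_orth C hr hx h3 ha.1 hb).symm
  obtain ⟨u, hu, w, k, hk, hkc, v, hv, rfl⟩ := Cfsg.Agent.Nodes.NormalForm.mem_centralizer C.rgd hS (by rw [hG]; trivial)
    (g := g) (by rw [Subgroup.mem_centralizer_iff]; rintro _ rfl; exact hg.symm)
  have hsup : RGD.Sup (fun x => X x ⊓ Subgroup.centralizer ({z r} : Set Y)) (RGD.Pos cs h) ≤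
      Subgroup.normalizer (KK Z r : Set Y) := RGD.Sup_le fun x hx => hX x hx.1
  refine mul_mem (mul_mem (hsup hu) ?_) (hsup hv)
  have hkz : z r * k = k * z r := Subgroup.mem_centralizer_iff.1 hkc _ rfl
  have e1 := conj_z C hk hr
  have e2 : k * z r * k⁻¹ = z r := by rw [← hkz]; group
  rw [e2] at e1
  have e3 : cj k (KK Z r) = KK Z (rep cs h w r) := by
    unfold KK
    rw [cj_sup, conj_Z C hk hr, conj_Z C hk (Cfsg.Agent.Nodes.ClsNorm.neg_mem C hr), map_neg]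
  rw [mem_normalizer_iff_cj, e3]
  rcases hsep r hr _ (C.act r hr w) e1 with e4 | e4
  · rw [e4]
  · rw [e4, KK_neg]

/-- an element normalising all `Z (± fr k)` lies in the torus -/
theorem mem_T_of_norm (hG : GG cs h T X = ⊤) (Fs : FrameSys cs h R fr)
    (hno : ∀ x, IsRoot cs h x → ∃ k, form cs h x (fr k) ≠ 0) {g : Y}
    (h1 : ∀ k, cj g (Z (fr k)) = Z (fr k)) (h2 : ∀ k, cj g (Z (-fr k)) = Z (-fr k)) : g ∈ T := by
  have ho : ∀ i j, i ≠ j → form cs h (fr i) (fr j) = 0 := fun i j hij => by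
    rw [← cpr_zero_iff cs h _ (C.root _ (Fs.mem j))]
    exact Fs.orth i j hij
  obtain ⟨w, k, hk, hw, d, hd, rfl⟩ := Cfsg.Agent.Nodes.RelFrame.stab m C fr fr Fs.mem Fs.mem ho ho (by rw [hG]; trivial) h1 h2
  have h1 : w = 1 := Cfsg.Agent.Nodes.FrameCent.eq_one_of_fix hno hw
  subst h1
  have h2 : Cfsg.Agent.Nodes.Perp.Perp cs h (Set.range fr) = ∅ := by
    rw [Set.eq_empty_iff_forall_notMem]
    intro x hx
    obtain ⟨i, hi⟩ := hno x hx.1
    exact hi (hx.2 _ ⟨i, rfl⟩)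
  have h3 : d = 1 := by
    unfold DD at hd
    rw [h2] at hd
    have : RGD.Sup X (∅ : Set (I → ℤ)) = ⊥ := by
      unfold RGD.Sup
      exact iSup_of_empty _
    rw [this] at hd
    exact Subgroup.mem_bot.1 hd
  rw [h3, mul_one]
  exact hk.mem_of_one

/-- **The centralizer of all `z (fr k)`.** -/
theorem mem_sup (hp : p.Prime) (hp2 : Odd p) (hG : GG cs h T X = ⊤) (Fs : FrameSys cs h R fr)
    (hsep : ∀ r ∈ R, ∀ s ∈ R, z r = z s → s = r ∨ s = -r)
    (hno : ∀ x, IsRoot cs h x → ∃ k, form cs h x (fr k) ≠ 0) {g : Y} (hg : ∀ k, g * z (fr k) = z (fr k) * g) :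
    g ∈ T ⊔ ⨆ k, KK Z (fr k) := by
  classical
  set D := T ⊔ ⨆ k, KK Z (fr k) with hD
  have hTD : T ≤ D := le_sup_left
  have hKD : ∀ k, KK Z (fr k) ≤ D := fun k => le_trans (le_iSup (fun k => KK Z (fr k)) k) le_sup_right
  have hS : Set.range (fun k => z (fr k)) ⊆ (T : Set Y) := by
    rintro _ ⟨k, rfl⟩
    exact C.z_torus _ (Fs.mem k)
  have hX : ∀ x, IsRoot cs h x → X x ⊓ Subgroup.centralizer (Set.range (fun k => z (fr k))) ≤ D := by
    intro x hx a ha
    have hza : ∀ k, z (fr k) * a = a * z (fr k) := fun k => Subgroup.mem_centralizer_iff.1 ha.2 _ ⟨k, rfl⟩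
    by_cases h1 : ∃ k, x = fr k ∨ x = -fr k
    · obtain ⟨k, hk | hk⟩ := h1
      · have h3 : a ∈ OddHalf.LongSL.ZX X (z (fr k)) (fr k) := OddHalf.LongSL.mem_ZX.2 ⟨hk ▸ ha.1, hza k⟩
        rw [OddHalf.LongSL.ZX_eq C hp2 (Fs.mem k)] at h3
        exact hKD k (le_sup_left (a := Z (fr k)) h3)
      · have h3 : a ∈ OddHalf.LongSL.ZX X (z (-fr k)) (-fr k) :=
          OddHalf.LongSL.mem_ZX.2 ⟨hk ▸ ha.1, by rw [C.z_neg _ (Fs.mem k)]; exact hza k⟩
        rw [OddHalf.LongSL.ZX_eq C hp2 (Cfsg.Agent.Nodes.ClsNorm.neg_mem C (Fs.mem k))] at h3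
        exact hKD k (le_sup_right (a := Z (fr k)) h3)
    · push Not at h1
      obtain ⟨k, hk⟩ := hno x hx
      rcases eq_one_or_comm C hp2 (Fs.mem k) hx (h1 k).1 (h1 k).2 ha.1 (hza k) with h3 | h3
      · rw [h3]; exact one_mem _
      · exact absurd h3 hk
  obtain ⟨u, hu, w, k, hk, hkc, v, hv, rfl⟩ := Cfsg.Agent.Nodes.NormalForm.mem_centralizer C.rgd hS (by rw [hG]; trivial)
    (g := g) (by rw [Subgroup.mem_centralizer_iff]; rintro _ ⟨k, rfl⟩; exact (hg k).symm)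
  have hsup : RGD.Sup (fun x => X x ⊓ Subgroup.centralizer (Set.range (fun k => z (fr k)))) (RGD.Pos cs h) ≤ D :=
    RGD.Sup_le fun x hx => hX x hx.1
  refine mul_mem (mul_mem (hsup hu) ?_) (hsup hv)
  have hsgn : ∀ j, rep cs h w (fr j) = fr j ∨ rep cs h w (fr j) = -fr j := by
    intro j
    have hkz : z (fr j) * k = k * z (fr j) := Subgroup.mem_centralizer_iff.1 hkc _ ⟨j, rfl⟩
    have e1 := conj_z C hk (Fs.mem j)
    have e2 : k * z (fr j) * k⁻¹ = z (fr j) := by rw [← hkz]; group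
    rw [e2] at e1
    exact hsep _ (Fs.mem j) _ (C.act _ (Fs.mem j) w) e1
  -- induction on the number of signs
  have key : ∀ N : ℕ, ∀ (w : W) (k : Y), Rp cs C.rgd.nsys w k →
      (∀ j, rep cs h w (fr j) = fr j ∨ rep cs h w (fr j) = -fr j) →
      (Finset.univ.filter (fun j => rep cs h w (fr j) = -fr j)).card = N → k ∈ D := by
    intro N
    induction N with
    | zero =>
      intro w k hk hw h0
      rw [Finset.card_eq_zero, Finset.filter_eq_empty_iff] at h0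
      have h1 : w = 1 := Cfsg.Agent.Nodes.FrameCent.eq_one_of_fix hno (fun j => (hw j).resolve_right (h0 (Finset.mem_univ j)))
      subst h1
      exact hTD hk.mem_of_one
    | succ N ih =>
      intro w k hk hw hN
      obtain ⟨j, hj⟩ : (Finset.univ.filter (fun j => rep cs h w (fr j) = -fr j)).Nonempty := by
        rw [← Finset.card_pos]; omega
      rw [Finset.mem_filter] at hj
      obtain ⟨b, hb, hb1⟩ : ∃ b ∈ Z (-fr j), b ≠ 1 := by
        by_contra h0
        push Not at h0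
        exact C.ne_bot _ (Cfsg.Agent.Nodes.ClsNorm.neg_mem C (Fs.mem j)) ((Subgroup.eq_bot_iff_forall _).2 h0)
      obtain ⟨a, ha, c, hc, s, hs, hsr⟩ := exists_refl_KK C hp (by rintro rfl; exact absurd hp2 (by decide)) (Fs.mem j) hb hb1
      have hmem : a * b * c ∈ KK Z (fr j) := mul_mem (mul_mem (le_sup_left (a := Z (fr j)) ha)
        (le_sup_right (a := Z (fr j)) hb)) (le_sup_left (a := Z (fr j)) hc)
      have hrj := C.root _ (Fs.mem j)
      have hsj : rep cs h s (fr j) = -fr j := by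
        rw [hsr, cpr_self cs h hrj, two_smul]; abel
      have hso : ∀ i, i ≠ j → rep cs h s (fr i) = fr i := by
        intro i hi
        rw [hsr, Fs.orth i j hi, zero_smul, sub_zero]
      have h1 : a * b * c * k ∈ D := by
        refine ih (s * w) _ (hs.mul hk) (fun i => ?_) ?_
        · rw [rep_mul_apply]
          by_cases hij : i = j
          · subst hij
            left
            rw [hj.2, map_neg, hsj, neg_neg]
          · rcases hw i with h2 | h2
            · left; rw [h2, hso i hij]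
            · right; rw [h2, map_neg, hso i hij]
        · have h3 : Finset.univ.filter (fun i => rep cs h (s * w) (fr i) = -fr i) =
              (Finset.univ.filter (fun i => rep cs h w (fr i) = -fr i)).erase j := by
            ext i
            rw [Finset.mem_erase, Finset.mem_filter, Finset.mem_filter, rep_mul_apply]
            by_cases hij : i = j
            · subst hij
              rw [hj.2, map_neg, hsj, neg_neg]
              constructor
              · rintro ⟨-, h4⟩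
                exact absurd h4 (Fs.ne_neg i i)
              · rintro ⟨h4, -⟩
                exact absurd rfl h4
            · rcases hw i with h2 | h2
              · rw [h2, hso i hij]
                exact ⟨fun h4 => ⟨hij, h4⟩, fun h4 => h4.2⟩
              · rw [h2, map_neg, hso i hij]
                exact ⟨fun h4 => ⟨hij, h4⟩, fun h4 => h4.2⟩
          rw [h3, Finset.card_erase_of_mem (Finset.mem_filter.2 hj), hN]
          omega
      have h2 : k = (a * b * c)⁻¹ * (a * b * c * k) := by group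
      rw [h2]
      exact mul_mem (inv_mem (hKD j hmem)) h1
  exact key _ w k hk hsgn rfl


/-! ### homomorphisms from `SL₂` -/

section SL

open Cfsg.Agent.Lib.SL2Mat Cfsg.Agent.H745.RowAbs Cfsg.Agent.H745.TorSL

variable {F : Type*} [Field F]

/-- `φ` maps the unitriangular matrices onto `Z r`, `Z (-r)` -/
structure SLAt (Z : (I → ℤ) → Subgroup Y) (φ : SL2 F →* Y) (r : I → ℤ) : Prop where
  inj : Function.Injective φ
  up_mem : ∀ a, φ (up a) ∈ Z r
  up_surj : ∀ u ∈ Z r, ∃ a, φ (up a) = u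
  lo_mem : ∀ a, φ (lo a) ∈ Z (-r)
  lo_surj : ∀ u ∈ Z (-r), ∃ a, φ (lo a) = u

omit C in
theorem SLAt.range_eq {φ : SL2 F →* Y} {r : I → ℤ} (H : SLAt Z φ r) : φ.range = KK Z r := by
  apply le_antisymm
  · rintro _ ⟨x, rfl⟩
    obtain ⟨a, b, c, d, rfl⟩ := exists_up_lo x
    rw [map_mul, map_mul, map_mul]
    unfold KK
    exact mul_mem (mul_mem (mul_mem (le_sup_left (a := Z r) (H.up_mem a)) (le_sup_right (a := Z r) (H.lo_mem b)))
      (le_sup_left (a := Z r) (H.up_mem c))) (le_sup_right (a := Z r) (H.lo_mem d))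
  · refine sup_le ?_ ?_
    · intro u hu
      obtain ⟨a, rfl⟩ := H.up_surj u hu
      exact ⟨_, rfl⟩
    · intro u hu
      obtain ⟨a, rfl⟩ := H.lo_surj u hu
      exact ⟨_, rfl⟩

theorem SLAt.conj {φ : SL2 F →* Y} {r : I → ℤ} (hr : r ∈ R) (H : SLAt Z φ r) {w : W} {k : Y}
    (hk : Rp cs C.rgd.nsys w k) : SLAt Z ((MulAut.conj k).toMonoidHom.comp φ) (rep cs h w r) where
  inj := (MulAut.conj k).injective.comp H.inj
  up_mem a := by
    rw [← conj_Z C hk hr]
    exact conj_mem_cj.2 (H.up_mem a)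
  up_surj u hu := by
    rw [← conj_Z C hk hr, mem_cj] at hu
    obtain ⟨a, ha⟩ := H.up_surj _ hu
    refine ⟨a, ?_⟩
    show k * φ (up a) * k⁻¹ = u
    rw [ha]; group
  lo_mem a := by
    rw [← map_neg, ← conj_Z C hk (Cfsg.Agent.Nodes.ClsNorm.neg_mem C hr)]
    exact conj_mem_cj.2 (H.lo_mem a)
  lo_surj u hu := by
    rw [← map_neg, ← conj_Z C hk (Cfsg.Agent.Nodes.ClsNorm.neg_mem C hr), mem_cj] at hu
    obtain ⟨a, ha⟩ := H.lo_surj _ hu
    refine ⟨a, ?_⟩
    show k * φ (lo a) * k⁻¹ = u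
    rw [ha]; group

theorem z_ne_one (hp2 : Odd p) {r : I → ℤ} (hr : r ∈ R)
    (hnb : ∃ y, IsRoot cs h y ∧ y ≠ r ∧ y ≠ -r ∧ form cs h y r ≠ 0) : z r ≠ 1 := by
  intro h1
  obtain ⟨y, hy, hy1, hy2, hy3⟩ := hnb
  apply Cfsg.Agent.Nodes.StdConn.X_ne_bot C hy
  rw [Subgroup.eq_bot_iff_forall]
  intro a ha
  exact eq_one_of_inv C hp2 hr hy ha (C.z_inv r hr y hy hy1 hy2 hy3 a ha) (by rw [h1, one_mul, mul_one])

theorem SLAt.neg_one {φ : SL2 F →* Y} {r : I → ℤ} (hr : r ∈ R) (H : SLAt Z φ r) (h2 : (2 : F) ≠ 0) (hz : z r ≠ 1) :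
    φ (-1) = z r := by
  have h1 := C.z_mem r hr
  have h3 : z r ∈ φ.range := by rw [H.range_eq]; exact h1
  obtain ⟨x, hx⟩ := h3
  have h4 : x * x = 1 := by
    apply H.inj
    rw [map_mul, hx, map_one]
    exact C.z_sq r hr
  have h5 : x ≠ 1 := by
    rintro rfl
    rw [map_one] at hx
    exact hz hx.symm
  rw [← hx, Cit.LongConj.eq_neg_one h2 h4 h5]

theorem dg_mem_T (hG : GG cs h T X = ⊤) (Fs : FrameSys cs h R fr)
    (hno : ∀ x, IsRoot cs h x → ∃ k, form cs h x (fr k) ≠ 0) {φ : SL2 F →* Y} {j : Fin m} (H : SLAt Z φ (fr j)) (b : F)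
    (hb : b ≠ 0) : φ (dg b hb) ∈ T := by
  have hinv : ∀ (b : F) (hb : b ≠ 0), (dg b hb)⁻¹ = dg b⁻¹ (inv_ne_zero hb) := by
    intro b hb
    refine inv_eq_of_mul_eq_one_right (ext_ent ?_ ?_ ?_ ?_) <;> simp [ent_mul, hb]
  have hu : ∀ (b : F) (hb : b ≠ 0), cj (φ (dg b hb)) (Z (fr j)) ≤ Z (fr j) := by
    rintro b hb _ ⟨u, hu, rfl⟩
    obtain ⟨a, rfl⟩ := H.up_surj u hu
    show φ (dg b hb) * φ (up a) * (φ (dg b hb))⁻¹ ∈ _
    rw [← map_mul, dg_up, map_mul, mul_inv_cancel_right]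
    exact H.up_mem _
  have hl : ∀ (b : F) (hb : b ≠ 0), cj (φ (dg b hb)) (Z (-fr j)) ≤ Z (-fr j) := by
    rintro b hb _ ⟨u, hu, rfl⟩
    obtain ⟨a, rfl⟩ := H.lo_surj u hu
    show φ (dg b hb) * φ (lo a) * (φ (dg b hb))⁻¹ ∈ _
    have e1 : dg b hb * lo a = lo ((b⁻¹) ^ 2 * a) * dg b hb := by
      refine ext_ent ?_ ?_ ?_ ?_ <;> simp [ent_mul]
      field_simp
    rw [← map_mul, e1, map_mul, mul_inv_cancel_right]
    exact H.lo_mem _
  have eq_of : ∀ (g : Y) (P : Subgroup Y), cj g P ≤ P → cj g⁻¹ P ≤ P → cj g P = P := by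
    intro g P h1 h2
    apply le_antisymm h1
    have h3 := cj_mono g h2
    rwa [cj_cj_inv] at h3
  have hJ : ∀ k, k ≠ j → ∀ x ∈ KK Z (fr k), φ (dg b hb) * x = x * φ (dg b hb) := by
    intro k hk
    have h0 : form cs h (fr k) (fr j) = 0 := by
      rw [← cpr_zero_iff cs h _ (C.root _ (Fs.mem j))]
      exact Fs.orth k j hk
    have h1 : φ (dg b hb) ∈ KK Z (fr j) := by rw [← H.range_eq]; exact ⟨_, rfl⟩
    have h2 : KK Z (fr k) ≤ Subgroup.centralizer ({φ (dg b hb)} : Set Y) := by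
      refine sup_le ?_ ?_
      · intro v hv
        rw [Subgroup.mem_centralizer_iff]; rintro _ rfl
        exact (z_comm_of_orth C (Fs.mem j) (C.root _ (Fs.mem k)) h0 (C.le _ (Fs.mem k) hv) h1).symm
      · intro v hv
        rw [Subgroup.mem_centralizer_iff]; rintro _ rfl
        exact (z_comm_of_orth C (Fs.mem j) (C.root _ (Fs.mem k)).neg (by rw [form_neg_left, h0, neg_zero])
          (C.le _ (Cfsg.Agent.Nodes.ClsNorm.neg_mem C (Fs.mem k)) hv) h1).symm
    intro x hx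
    exact Subgroup.mem_centralizer_iff.1 (h2 hx) _ rfl
  refine mem_T_of_norm C hG Fs hno (fun k => ?_) (fun k => ?_)
  · by_cases hk : k = j
    · subst hk
      refine eq_of _ _ (hu b hb) ?_
      rw [← map_inv, hinv]
      exact hu _ _
    · exact Cfsg.Agent.Nodes.FrameCent.cj_eq_of_comm C fun x hx => hJ k hk x (le_sup_left (a := Z (fr k)) hx)
  · by_cases hk : k = j
    · subst hk
      refine eq_of _ _ (hl b hb) ?_
      rw [← map_inv, hinv]
      exact hl _ _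
    · exact Cfsg.Agent.Nodes.FrameCent.cj_eq_of_comm C fun x hx => hJ k hk x (le_sup_right (a := Z (fr k)) hx)

/-- the torus acts diagonally -/
theorem torus_acts (hG : GG cs h T X = ⊤) (Fs : FrameSys cs h R fr)
    (hno : ∀ x, IsRoot cs h x → ∃ k, form cs h x (fr k) ≠ 0) (hTc : ∀ s ∈ T, ∀ t ∈ T, s * t = t * s)
    (h2 : (2 : F) ≠ 0) {φ : SL2 F →* Y} {j : Fin m} (H : SLAt Z φ (fr j)) {t : Y} (ht : t ∈ T) :
    ∃ (c : F) (hc : c ≠ 0), ∀ x, t * φ x * t⁻¹ = φ (dc c hc x) := by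
  refine torus H.inj h2 (fun a => ?_) (fun a => ?_) (fun b hb => hTc t ht _ (dg_mem_T C hG Fs hno H b hb))
  · have h1 : t * φ (up a) * t⁻¹ ∈ Z (fr j) := by
      have h3 := C.tor _ (Fs.mem j) t ht
      rw [← h3]
      exact conj_mem_cj.2 (H.up_mem a)
    obtain ⟨b, hb⟩ := H.up_surj _ h1
    exact ⟨b, hb.symm⟩
  · have h1 : t * φ (lo a) * t⁻¹ ∈ Z (-fr j) := by
      have h3 := C.tor _ (Cfsg.Agent.Nodes.ClsNorm.neg_mem C (Fs.mem j)) t ht
      rw [← h3]
      exact conj_mem_cj.2 (H.lo_mem a)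
    obtain ⟨b, hb⟩ := H.lo_surj _ h1
    exact ⟨b, hb.symm⟩

theorem comm_KK {r s : I → ℤ} (hr : r ∈ R) (hs : s ∈ R) (h0 : form cs h r s = 0) {x y : Y} (hx : x ∈ KK Z r)
    (hy : y ∈ KK Z s) : x * y = y * x := by
  have h2 : KK Z r ≤ Subgroup.centralizer ({y} : Set Y) := by
    refine sup_le ?_ ?_
    · intro v hv
      rw [Subgroup.mem_centralizer_iff]; rintro _ rfl
      exact (z_comm_of_orth C hs (C.root _ hr) h0 (C.le _ hr hv) hy).symm
    · intro v hv
      rw [Subgroup.mem_centralizer_iff]; rintro _ rfl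
      exact (z_comm_of_orth C hs (C.root _ hr).neg (by rw [form_neg_left, h0, neg_zero])
        (C.le _ (Cfsg.Agent.Nodes.ClsNorm.neg_mem C hr) hv) hy).symm
  exact (Subgroup.mem_centralizer_iff.1 (h2 hx) _ rfl).symm

/-- **The frame of `SL₂(q)`'s.** -/
theorem frame (hp : p.Prime) (hp2 : Odd p) (hG : GG cs h T X = ⊤) [Fintype F] (hF : Odd (Fintype.card F))
    (Fs : FrameSys cs h R fr) (hno : ∀ x, IsRoot cs h x → ∃ k, form cs h x (fr k) ≠ 0)
    (hTc : ∀ s ∈ T, ∀ t ∈ T, s * t = t * s)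
    (hsep : ∀ k l, k ≠ l → ∃ y, IsRoot cs h y ∧ y ≠ fr k ∧ y ≠ -fr k ∧ form cs h y (fr k) ≠ 0 ∧ form cs h y (fr l) = 0)
    (htr : ∀ r ∈ R, ∀ s ∈ R, ∃ w : W, rep cs h w r = s)
    (hnb : ∀ k, ∃ y ∈ R, y ≠ fr k ∧ y ≠ -fr k ∧ form cs h y (fr k) ≠ 0)
    {E : Set (Equiv.Perm (Fin m))} (hE : PermTwo.Good E)
    (hperm : ∀ σ ∈ E, ∃ w : W, ∀ k, rep cs h w (fr k) = fr (σ k) ∨ rep cs h w (fr k) = -fr (σ k))
    {φ : Fin m → (SL2 F →* Y)} (H : ∀ k, SLAt Z (φ k) (fr k)) : Frame φ E := by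
  have h2 : (2 : F) ≠ 0 := OddHalf.LongSL.two_ne_of_odd hF
  have hsep' : ∀ r ∈ R, ∀ s ∈ R, z r = z s → s = r ∨ s = -r := fun r hr s hs => z_sep C hp2 Fs hsep hr hs
  have hnb' : ∀ k, ∃ y, IsRoot cs h y ∧ y ≠ fr k ∧ y ≠ -fr k ∧ form cs h y (fr k) ≠ 0 := fun k => by
    obtain ⟨y, hy, h3⟩ := hnb k
    exact ⟨y, C.root y hy, h3⟩
  have hz1 : ∀ k, z (fr k) ≠ 1 := fun k => z_ne_one C hp2 (Fs.mem k) (hnb' k)
  have hφ1 : ∀ k, φ k (-1) = z (fr k) := fun k => (H k).neg_one C (Fs.mem k) h2 (hz1 k)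
  have hrg : ∀ k, (φ k).range = KK Z (fr k) := fun k => (H k).range_eq
  have hform : ∀ k l, k ≠ l → form cs h (fr k) (fr l) = 0 := fun k l hkl => by
    rw [← cpr_zero_iff cs h _ (C.root _ (Fs.mem l))]
    exact Fs.orth k l hkl
  have hcomm : ∀ i j, i ≠ j → ∀ x y, φ i x * φ j y = φ j y * φ i x := fun i j hij x y =>
    comm_KK C (Fs.mem i) (Fs.mem j) (hform i j hij) (by rw [← hrg]; exact ⟨x, rfl⟩) (by rw [← hrg]; exact ⟨y, rfl⟩)
  have hnorm : ∀ i g, g * φ i (-1) = φ i (-1) * g → g ∈ Subgroup.normalizer (((φ i).range : Subgroup Y) : Set Y) := by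
    intro i g hg
    rw [hrg]
    rw [hφ1] at hg
    exact norm C hp2 hG hsep' (Fs.mem i) hg
  have hTn : ∀ i, T ≤ Subgroup.normalizer (((φ i).range : Subgroup Y) : Set Y) := by
    intro i t ht
    apply hnorm
    rw [hφ1]
    exact (C.z_T _ (Fs.mem i) t ht).symm
  have hLam : ∀ g ∈ Lam φ, g ∈ T ⊔ ⨆ k, KK Z (fr k) := by
    intro g hg
    rw [mem_Lam] at hg
    refine mem_sup C hp hp2 hG Fs hsep' hno fun k => ?_
    rw [← hφ1]
    exact hg k
  refine ⟨fun k => (H k).inj, hcomm, hnorm, ?_, ?_, ?_, ?_, ?_, hE⟩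
  · intro i j
    obtain ⟨w, hw⟩ := htr _ (Fs.mem i) _ (Fs.mem j)
    obtain ⟨k, hk⟩ := exists_rp cs C.rgd.nsys w
    refine ⟨k, ?_⟩
    rw [hrg, hrg]
    show cj k (KK Z (fr i)) = _
    unfold KK
    rw [cj_sup, conj_Z C hk (Fs.mem i), conj_Z C hk (Cfsg.Agent.Nodes.ClsNorm.neg_mem C (Fs.mem i)), map_neg, hw]
  · intro g hg i
    let S : Subgroup Y :=
      { carrier := {g | g ∈ Subgroup.normalizer (((φ i).range : Subgroup Y) : Set Y) ∧ ∃ m, Acts (φ i) g m}
        mul_mem' := by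
          rintro a b ⟨ha, m, hm⟩ ⟨hb, m', hm'⟩
          exact ⟨mul_mem ha hb, _, hm.mul hm' hb⟩
        one_mem' := by
          refine ⟨one_mem _, 1, ?_⟩
          have h3 := Acts.of_range (H i).inj 1
          rwa [map_one] at h3
        inv_mem' := by
          rintro a ⟨ha, m, hm⟩
          exact ⟨inv_mem ha, _, hm.inv⟩ }
    have hle : T ⊔ ⨆ k, KK Z (fr k) ≤ S := by
      refine sup_le ?_ (iSup_le fun k => ?_)
      · intro t ht
        obtain ⟨c, hc, h3⟩ := torus_acts C hG Fs hno hTc h2 (H i) ht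
        exact ⟨hTn i ht, _, acts_dc (H i).inj hc h3⟩
      · intro x hx
        rw [← hrg] at hx
        obtain ⟨x, rfl⟩ := hx
        by_cases hk : k = i
        · subst hk
          exact ⟨Subgroup.le_normalizer ⟨x, rfl⟩, _, Acts.of_range (H k).inj x⟩
        · refine ⟨centralizer_le_normalizer' _ (Subgroup.mem_centralizer_iff.2 ?_), 1, by simp, fun u v huv => ?_⟩
          · rintro _ ⟨y, rfl⟩
            exact (hcomm k i hk x y).symm
          · rw [hcomm k i hk] at huv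
            have h3 := (H i).inj (mul_right_cancel huv)
            rw [h3, one_mul, mul_one]
    exact (hle (hLam g hg)).2
  · intro g hg b hb
    have hgT : g ∈ T := by
      have h3 : ∀ k, ∀ x ∈ KK Z (fr k), g * x = x * g := by
        intro k x hx
        rw [← hrg] at hx
        obtain ⟨x, rfl⟩ := hx
        exact hg k x
      exact mem_T_of_norm C hG Fs hno
        (fun k => Cfsg.Agent.Nodes.FrameCent.cj_eq_of_comm C fun x hx => h3 k x (le_sup_left (a := Z (fr k)) hx))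
        (fun k => Cfsg.Agent.Nodes.FrameCent.cj_eq_of_comm C fun x hx => h3 k x (le_sup_right (a := Z (fr k)) hx))
    have hle : T ⊔ ⨆ k, KK Z (fr k) ≤ Subgroup.centralizer ({g} : Set Y) := by
      refine sup_le ?_ (iSup_le fun k => ?_)
      · intro t ht
        rw [Subgroup.mem_centralizer_iff]; rintro _ rfl
        exact hTc _ hgT t ht
      · intro x hx
        rw [← hrg] at hx
        obtain ⟨x, rfl⟩ := hx
        rw [Subgroup.mem_centralizer_iff]; rintro _ rfl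
        exact hg k x
    exact Subgroup.mem_centralizer_iff.1 (hle (hLam b hb)) g rfl
  · intro i
    obtain ⟨s, hs, hs1, hs2, hs3⟩ := hnb i
    obtain ⟨w, hw⟩ := htr _ (Fs.mem i) _ hs
    obtain ⟨k, hk⟩ := exists_rp cs C.rgd.nsys w
    obtain ⟨a, ζ, hζ, hmax⟩ := exists_max_root (F := F) h2
    have hζ0 : ζ ≠ 0 := by
      rintro rfl
      rw [zero_pow (by positivity)] at hζ
      exact neg_ne_zero.2 one_ne_zero hζ.symm
    set t := k * φ i (dg ζ hζ0) * k⁻¹ with ht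
    have htT : t ∈ T := (Subgroup.mem_normalizer_iff.1 hk.mem_normalizer _).1 (dg_mem_T C hG Fs hno (H i) ζ hζ0)
    have htp : t ^ 2 ^ a = z s := by
      have h3 : t ^ 2 ^ a = k * (φ i (dg ζ hζ0)) ^ 2 ^ a * k⁻¹ := by
        rw [ht]; exact conj_pow
      rw [h3, ← map_pow, dg_pow]
      have h4 : dg (ζ ^ 2 ^ a) (pow_ne_zero _ hζ0) = (-1 : SL2 F) := by
        rw [neg_one_eq_dg]
        congr 1
      rw [h4, hφ1, conj_z C hk (Fs.mem i), hw]
    obtain ⟨c, hc, h3⟩ := torus_acts C hG Fs hno hTc h2 (H i) htT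
    refine ⟨t, ?_, _, acts_dc (H i).inj hc h3, ?_⟩
    · rw [mem_Lam]
      intro j
      rw [hφ1]
      exact (C.z_T _ (Fs.mem j) t htT).symm
    · have hpow : ∀ N : ℕ, t ^ N * φ i (up 1) * (t ^ N)⁻¹ = φ i (up (c ^ N)) := by
        intro N
        induction N with
        | zero => simp
        | succ N ih =>
          calc t ^ (N + 1) * φ i (up 1) * (t ^ (N + 1))⁻¹ = t * (t ^ N * φ i (up 1) * (t ^ N)⁻¹) * t⁻¹ := by
                rw [pow_succ']; group
            _ = φ i (up (c ^ (N + 1))) := by rw [ih, h3, dc_up, pow_succ']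
      have h4 := hpow (2 ^ a)
      rw [htp] at h4
      have h5 := C.z_inv s hs (fr i) (C.root _ (Fs.mem i)) hs1.symm (fun h6 => hs2 (by rw [h6, neg_neg]))
        (by rw [form_comm]; exact hs3) _ (C.le _ (Fs.mem i) ((H i).up_mem 1))
      rw [inv_eq_of_mul_eq_one_right (C.z_sq s hs), h5, ← map_inv, up_inv] at h4
      have h6 : c ^ 2 ^ a = -1 := (up_inj ((H i).inj h4)).symm
      have h7 : (!![c, 0; 0, 1] : Matrix (Fin 2) (Fin 2) F).det = c := by simp
      rw [h7]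
      exact not_isSquare_of hmax h6
  · intro σ hσ
    obtain ⟨w, hw⟩ := hperm σ hσ
    obtain ⟨k, hk⟩ := exists_rp cs C.rgd.nsys w
    refine ⟨k, fun i => ?_⟩
    rw [hrg, hrg]
    show cj k (KK Z (fr i)) = _
    have h3 : cj k (KK Z (fr i)) = KK Z (rep cs h w (fr i)) := by
      unfold KK
      rw [cj_sup, conj_Z C hk (Fs.mem i), conj_Z C hk (Cfsg.Agent.Nodes.ClsNorm.neg_mem C (Fs.mem i)), map_neg]
    rw [h3]
    rcases hw i with h4 | h4
    · rw [h4]
    · rw [h4, KK_neg]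

/-- **`OddRow` from classical root groups.** -/
theorem oddRow_of_cls [Finite Y] (hp : p.Prime) (hp2 : Odd p) (hG : GG cs h T X = ⊤) [Fintype F]
    (hF : Odd (Fintype.card F))
    (Fs : FrameSys cs h R fr) (hno : ∀ x, IsRoot cs h x → ∃ k, form cs h x (fr k) ≠ 0)
    (hTc : ∀ s ∈ T, ∀ t ∈ T, s * t = t * s)
    (hsep : ∀ k l, k ≠ l → ∃ y, IsRoot cs h y ∧ y ≠ fr k ∧ y ≠ -fr k ∧ form cs h y (fr k) ≠ 0 ∧ form cs h y (fr l) = 0)
    (htr : ∀ r ∈ R, ∀ s ∈ R, ∃ w : W, rep cs h w r = s)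
    (hnb : ∀ k, ∃ y ∈ R, y ≠ fr k ∧ y ≠ -fr k ∧ form cs h y (fr k) ≠ 0)
    {E : Set (Equiv.Perm (Fin m))} (hE : PermTwo.Good E)
    (hperm : ∀ σ ∈ E, ∃ w : W, ∀ k, rep cs h w (fr k) = fr (σ k) ∨ rep cs h w (fr k) = -fr (σ k))
    (i₀ : Fin m) {r₀ : I → ℤ} (hr₀ : r₀ ∈ R) {φ : SL2 F →* Y} (H : SLAt Z φ r₀) : H747.OddRow Y := by
  have h1 : ∀ k, ∃ φ : SL2 F →* Y, SLAt Z φ (fr k) := by
    intro k
    obtain ⟨w, hw⟩ := htr _ hr₀ _ (Fs.mem k)
    obtain ⟨g, hg⟩ := exists_rp cs C.rgd.nsys w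
    have h2 := H.conj C hr₀ hg
    rw [hw] at h2
    exact ⟨_, h2⟩
  choose ψ hψ using h1
  exact (frame C hp hp2 hG hF Fs hno hTc hsep htr hnb hE hperm hψ).oddRow hF i₀

end SL

end Cfsg.Agent.H745.RowCls
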