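import Cfsg.Agent.H745.RowAbs
import Cfsg.Agent.ClosedTwo.PspWr
import Cfsg.Agent.H94.Syl2Sym
import Cfsg.Agent.ClassicalGeometry.PSL2Basic
import Cfsg.Agent.LieClassical.SympCenter

/-!
# The frame of `Sp_2m(q)`, `q` odd (helper745, for S5161)

`row_PSp` : `RowTwo (PSp m F)`, `|F| ≡ ±1 mod 8`. For all odd `q`: `pframe`, `mem_range_blk_of_odd`.
-/

set_option autoImplicit false
set_option linter.unusedSectionVars false

namespace Cfsg.Agent.H745.RowSp

open Matrix Subgroup Cfsg Cfsg.Agent.ClassicalGeometry.SympBasic Cfsg.Agent.HoltZ.Psp Cfsg.Agent.ClosedTwo.Psp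
open Cfsg.Agent.Cit Cfsg.Agent.H745.RowAbs

variable {F : Type*} [Field F] {m : ℕ}

local notation "V" => (Fin m ⊕ Fin m → F)
local notation "G" => Matrix.symplecticGroup (Fin m) F
local notation "f" => sympForm m F
local notation "Mat" => Matrix (Fin m ⊕ Fin m) (Fin m ⊕ Fin m) F
local notation "SL" => Matrix.SpecialLinearGroup (Fin 2) F

/-- the `i`-th `SL₂` -/
def fr (i : Fin m) : SL →* G := (blk (m := m) (F := F)).comp (MonoidHom.mulSingle (fun _ : Fin m => SL) i)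

theorem fr_apply (i : Fin m) (x : SL) : (fr i x : G) = blk (Pi.mulSingle i x) := rfl

theorem fr_injective (i : Fin m) : Function.Injective (fr i : SL → G) := by
  intro x y h
  exact Pi.mulSingle_injective i (blk_injective h)

theorem fr_comm (i j : Fin m) (hij : i ≠ j) (x y : SL) : (fr i x * fr j y : G) = fr j y * fr i x := by
  rw [fr_apply, fr_apply, ← map_mul, ← map_mul]
  exact congrArg blk (@Pi.mulSingle_commute (Fin m) (fun _ => SL) _ _ i j hij x y).eq

theorem fr_inl (i : Fin m) (x : SL) (v : V) (k : Fin m) : (((fr i x : G) : Mat) *ᵥ v) (.inl k) =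
    if k = i then x 0 0 * v (.inl i) + x 0 1 * v (.inr i) else v (.inl k) := by
  rw [fr_apply, blk_mulVec, bf_inl]
  split_ifs with h
  · subst h; rw [Pi.mulSingle_eq_same]
  · rw [Pi.mulSingle_eq_of_ne h]; simp

theorem fr_inr (i : Fin m) (x : SL) (v : V) (k : Fin m) : (((fr i x : G) : Mat) *ᵥ v) (.inr k) =
    if k = i then x 1 0 * v (.inl i) + x 1 1 * v (.inr i) else v (.inr k) := by
  rw [fr_apply, blk_mulVec, bf_inr]
  split_ifs with h
  · subst h; rw [Pi.mulSingle_eq_same]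
  · rw [Pi.mulSingle_eq_of_ne h]; simp

theorem frm_inl (i : Fin m) (v : V) (k : Fin m) : (((fr i (-1) : G) : Mat) *ᵥ v) (.inl k) =
    if k = i then - v (.inl k) else v (.inl k) := by
  rw [fr_inl]
  split_ifs with h
  · subst h; simp
  · rfl

theorem frm_inr (i : Fin m) (v : V) (k : Fin m) : (((fr i (-1) : G) : Mat) *ᵥ v) (.inr k) =
    if k = i then - v (.inr k) else v (.inr k) := by
  rw [fr_inr]
  split_ifs with h
  · subst h; simp
  · rfl

/-! ### elements commuting with the `i`-th involution -/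

section Comm

/-- vectors vanishing on the plane `i` -/
theorem zero_of (h2 : (2 : F) ≠ 0) {i : Fin m} {g : G} (hg : g * (fr i (-1) : G) = (fr i (-1) : G) * g)
    (v : V) (h1 : v (.inl i) = 0) (h3 : v (.inr i) = 0) :
    ((g : Mat) *ᵥ v) (.inl i) = 0 ∧ ((g : Mat) *ᵥ v) (.inr i) = 0 := by
  have e1 : ((fr i (-1) : G) : Mat) *ᵥ v = v := by
    ext (k | k)
    · rw [frm_inl]
      split_ifs with h
      · subst h; rw [h1, neg_zero]
      · rfl
    · rw [frm_inr]
      split_ifs with h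
      · subst h; rw [h3, neg_zero]
      · rfl
  have e2 : ((fr i (-1) : G) : Mat) *ᵥ ((g : Mat) *ᵥ v) = (g : Mat) *ᵥ v := by
    rw [← coe_mul_mulVec, ← hg, coe_mul_mulVec, e1]
  have key : ∀ a : F, -a = a → a = 0 := by
    intro a ha
    have : 2 * a = 0 := by linear_combination -ha
    exact (mul_eq_zero.1 this).resolve_left h2
  have a1 := congrFun e2 (.inl i)
  have a2 := congrFun e2 (.inr i)
  rw [frm_inl, if_pos rfl] at a1
  rw [frm_inr, if_pos rfl] at a2
  exact ⟨key _ a1, key _ a2⟩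

/-- vectors supported on the plane `i` -/
theorem supp_of (h2 : (2 : F) ≠ 0) {i : Fin m} {g : G} (hg : g * (fr i (-1) : G) = (fr i (-1) : G) * g)
    (v : V) (hv : ∀ k, k ≠ i → v (.inl k) = 0 ∧ v (.inr k) = 0) (k : Fin m) (hk : k ≠ i) :
    ((g : Mat) *ᵥ v) (.inl k) = 0 ∧ ((g : Mat) *ᵥ v) (.inr k) = 0 := by
  have e1 : ((fr i (-1) : G) : Mat) *ᵥ v = -v := by
    ext (l | l)
    · rw [frm_inl]
      split_ifs with h
      · rfl
      · rw [Pi.neg_apply, (hv l h).1, neg_zero]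
    · rw [frm_inr]
      split_ifs with h
      · rfl
      · rw [Pi.neg_apply, (hv l h).2, neg_zero]
  have e2 : ((fr i (-1) : G) : Mat) *ᵥ ((g : Mat) *ᵥ v) = -((g : Mat) *ᵥ v) := by
    rw [← coe_mul_mulVec, ← hg, coe_mul_mulVec, e1, mulVec_neg]
  have key : ∀ a : F, a = -a → a = 0 := by
    intro a ha
    have : 2 * a = 0 := by linear_combination ha
    exact (mul_eq_zero.1 this).resolve_left h2
  have a1 := congrFun e2 (.inl k)
  have a2 := congrFun e2 (.inr k)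
  rw [frm_inl, if_neg hk, Pi.neg_apply] at a1
  rw [frm_inr, if_neg hk, Pi.neg_apply] at a2
  exact ⟨key _ a1, key _ a2⟩

/-- the block `i` -/
def bl (g : G) (i : Fin m) : Matrix (Fin 2) (Fin 2) F :=
  !![(g : Mat) (.inl i) (.inl i), (g : Mat) (.inl i) (.inr i); (g : Mat) (.inr i) (.inl i), (g : Mat) (.inr i) (.inr i)]

/-- the part of a vector in the plane `i` -/
def pt (v : V) (i : Fin m) : V := v (.inl i) • Pi.single (.inl i) 1 + v (.inr i) • Pi.single (.inr i) 1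

theorem pt_inl (v : V) (i : Fin m) : pt v i (.inl i) = v (.inl i) := by
  simp [pt]

theorem pt_inr (v : V) (i : Fin m) : pt v i (.inr i) = v (.inr i) := by
  simp [pt]

theorem pt_ne (v : V) (i k : Fin m) (hk : k ≠ i) : pt v i (.inl k) = 0 ∧ pt v i (.inr k) = 0 := by
  simp [pt, hk]

theorem mulVec_single (A : Mat) (k l : Fin m ⊕ Fin m) : (A *ᵥ Pi.single l 1) k = A k l := by
  simp

theorem blk_inl (h2 : (2 : F) ≠ 0) {i : Fin m} {g : G} (hg : g * (fr i (-1) : G) = (fr i (-1) : G) * g)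
    (v : V) : ((g : Mat) *ᵥ v) (.inl i) = bl g i 0 0 * v (.inl i) + bl g i 0 1 * v (.inr i) := by
  have h1 := (zero_of h2 hg (v - pt v i) (by rw [Pi.sub_apply, pt_inl, sub_self])
    (by rw [Pi.sub_apply, pt_inr, sub_self])).1
  rw [mulVec_sub, Pi.sub_apply, sub_eq_zero] at h1
  rw [h1, pt, mulVec_add, mulVec_smul, mulVec_smul]
  rw [Pi.add_apply, Pi.smul_apply, Pi.smul_apply, mulVec_single, mulVec_single, smul_eq_mul, smul_eq_mul, mul_comm]
  rw [mul_comm (v (.inr i))]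
  rfl

theorem blk_inr (h2 : (2 : F) ≠ 0) {i : Fin m} {g : G} (hg : g * (fr i (-1) : G) = (fr i (-1) : G) * g)
    (v : V) : ((g : Mat) *ᵥ v) (.inr i) = bl g i 1 0 * v (.inl i) + bl g i 1 1 * v (.inr i) := by
  have h1 := (zero_of h2 hg (v - pt v i) (by rw [Pi.sub_apply, pt_inl, sub_self])
    (by rw [Pi.sub_apply, pt_inr, sub_self])).2
  rw [mulVec_sub, Pi.sub_apply, sub_eq_zero] at h1
  rw [h1, pt, mulVec_add, mulVec_smul, mulVec_smul]
  rw [Pi.add_apply, Pi.smul_apply, Pi.smul_apply, mulVec_single, mulVec_single, smul_eq_mul, smul_eq_mul, mul_comm]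
  rw [mul_comm (v (.inr i))]
  rfl

theorem det_bl (h2 : (2 : F) ≠ 0) {i : Fin m} {g : G} (hg : g * (fr i (-1) : G) = (fr i (-1) : G) * g) : (bl g i).det = 1 := by
  have h1 := mem_symplecticGroup_iff.1 g.2 (Pi.single (.inr i) 1) (Pi.single (.inl i) 1)
  rw [sympForm_eq_sum, sympForm_eq_sum, Finset.sum_eq_single i, Finset.sum_eq_single i] at h1
  · rw [blk_inl h2 hg, blk_inl h2 hg, blk_inr h2 hg, blk_inr h2 hg] at h1
    simp only [Pi.single_eq_same, Pi.single_eq_of_ne (Sum.inl_ne_inr), Pi.single_eq_of_ne (Sum.inr_ne_inl), mul_one,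
      mul_zero, add_zero, zero_add, sub_zero] at h1
    rw [det_fin_two]
    linear_combination h1
  · intro k _ hk
    simp [hk]
  · intro h; exact absurd (Finset.mem_univ _) h
  · intro k _ hk
    have h3 := supp_of h2 hg (Pi.single (.inr i) 1) (fun l hl => ⟨by rw [Pi.single_eq_of_ne (by simp)],
      by rw [Pi.single_eq_of_ne (by simpa using hl)]⟩) k hk
    rw [h3.1, h3.2]
    simp
  · intro h; exact absurd (Finset.mem_univ _) h

/-- **conjugation** -/
theorem conj_fr (h2 : (2 : F) ≠ 0) {i : Fin m} {g : G} (hg : g * (fr i (-1) : G) = (fr i (-1) : G) * g) (x : SL) : g * fr i x = fr i (⟨bl g i, det_bl h2 hg⟩ * x * ⟨bl g i, det_bl h2 hg⟩⁻¹) * g := by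
  set b : SL := ⟨bl g i, det_bl h2 hg⟩ with hb
  set y : SL := b * x * b⁻¹ with hy
  have hyb : y * b = b * x := by rw [hy]; group
  have hb00 : b 0 0 = bl g i 0 0 := rfl
  have hb01 : b 0 1 = bl g i 0 1 := rfl
  have hb10 : b 1 0 = bl g i 1 0 := rfl
  have hb11 : b 1 1 = bl g i 1 1 := rfl
  have k00 := congrArg (fun z : SL => z 0 0) hyb
  have k01 := congrArg (fun z : SL => z 0 1) hyb
  have k10 := congrArg (fun z : SL => z 1 0) hyb
  have k11 := congrArg (fun z : SL => z 1 1) hyb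
  simp only [Matrix.SpecialLinearGroup.coe_mul, Matrix.mul_apply, Fin.sum_univ_two] at k00 k01 k10 k11
  refine ext_mulVec fun v => ?_
  rw [coe_mul_mulVec, coe_mul_mulVec]
  have hne : ∀ k, k ≠ i → ((g : Mat) *ᵥ (((fr i x : G) : Mat) *ᵥ v)) (.inl k) = ((g : Mat) *ᵥ v) (.inl k) ∧
      ((g : Mat) *ᵥ (((fr i x : G) : Mat) *ᵥ v)) (.inr k) = ((g : Mat) *ᵥ v) (.inr k) := by
    intro k hk
    have h3 := supp_of h2 hg (((fr i x : G) : Mat) *ᵥ v - v) (fun l hl => by
      rw [Pi.sub_apply, Pi.sub_apply, fr_inl, fr_inr, if_neg hl, if_neg hl]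
      exact ⟨sub_self _, sub_self _⟩) k hk
    rw [mulVec_sub, Pi.sub_apply, Pi.sub_apply, sub_eq_zero, sub_eq_zero] at h3
    exact h3
  ext (k | k)
  · rw [fr_inl]
    split_ifs with h
    · subst h
      rw [blk_inl h2 hg, blk_inl h2 hg, blk_inr h2 hg, fr_inl, fr_inr, if_pos rfl, if_pos rfl, ← hb00, ← hb01,
        ← hb10, ← hb11]
      linear_combination -(v (.inl k)) * k00 - v (.inr k) * k01
    · exact (hne k h).1
  · rw [fr_inr]
    split_ifs with h
    · subst h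
      rw [blk_inl h2 hg, blk_inr h2 hg, blk_inr h2 hg, fr_inl, fr_inr, if_pos rfl, if_pos rfl, ← hb00, ← hb01,
        ← hb10, ← hb11]
      linear_combination -(v (.inl k)) * k10 - v (.inr k) * k11
    · exact (hne k h).2

theorem fr_norm (h2 : (2 : F) ≠ 0) {i : Fin m} {g : G} (hg : g * (fr i (-1) : G) = (fr i (-1) : G) * g) : g ∈ normalizer (((fr i : SL →* G).range : Subgroup G) : Set G) := by
  have key : ∀ {g : G}, g * (fr i (-1) : G) = (fr i (-1) : G) * g → ∀ x ∈ (fr i : SL →* G).range,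
      g * x * g⁻¹ ∈ (fr i : SL →* G).range := by
    rintro g hg _ ⟨x, rfl⟩
    exact ⟨_, by rw [conj_fr h2 hg x]; group; rfl⟩
  rw [mem_normalizer_iff]
  intro x
  refine ⟨key hg x, fun h => ?_⟩
  have hg' : g⁻¹ * (fr i (-1) : G) = (fr i (-1) : G) * g⁻¹ := by
    rw [inv_mul_eq_iff_eq_mul, ← mul_assoc, hg, mul_inv_cancel_right]
  have h3 := key hg' _ h
  have e : g⁻¹ * (g * x * g⁻¹) * g⁻¹⁻¹ = x := by group
  rwa [e] at h3

theorem fr_acts (h2 : (2 : F) ≠ 0) {i : Fin m} {g : G} (hg : g * (fr i (-1) : G) = (fr i (-1) : G) * g) : Acts (fr i : SL →* G) g (bl g i) := by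
  refine ⟨by rw [det_bl h2 hg]; exact one_ne_zero, fun x y hxy => ?_⟩
  rw [conj_fr h2 hg x] at hxy
  have h1 := fr_injective i (mul_right_cancel hxy)
  rw [← h1]
  set b : SL := ⟨bl g i, det_bl h2 hg⟩ with hb
  have h3 : b * x = b * x * b⁻¹ * b := by group
  exact congrArg Subtype.val h3

end Comm

/-! ### the group `Λ` -/

theorem mem_Lam_fr {g : G} : g ∈ Lam (fr : Fin m → (SL →* G)) ↔ ∀ i, g * (fr i (-1) : G) = (fr i (-1) : G) * g := mem_Lam

theorem blk_mem_Lam (x : Fin m → SL) : (blk x : G) ∈ Lam (fr : Fin m → (SL →* G)) := by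
  rw [mem_Lam_fr]
  intro i
  rw [fr_apply, ← map_mul, ← map_mul]
  congr 1
  funext k
  rw [Pi.mul_apply, Pi.mul_apply]
  by_cases hk : k = i
  · subst hk
    rw [Pi.mulSingle_eq_same, mul_neg, neg_mul, mul_one, one_mul]
  · rw [Pi.mulSingle_eq_of_ne hk, mul_one, one_mul]

theorem mem_Lam_iff (h2 : (2 : F) ≠ 0) {g : G} : g ∈ Lam (fr : Fin m → (SL →* G)) ↔ g ∈ (blk : (Fin m → SL) →* G).range := by
  constructor
  · intro h
    rw [mem_Lam_fr] at h
    let b : Fin m → SL := fun i => ⟨bl g i, det_bl h2 (h i)⟩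
    refine ⟨b, ?_⟩
    refine ext_mulVec fun v => ?_
    rw [blk_mulVec]
    ext (k | k)
    · rw [bf_inl, blk_inl h2 (h k)]
    · rw [bf_inr, blk_inr h2 (h k)]
  · rintro ⟨x, rfl⟩
    exact blk_mem_Lam x

theorem Lam_eq (h2 : (2 : F) ≠ 0) : Lam (fr : Fin m → (SL →* G)) = (blk : (Fin m → SL) →* G).range :=
  SetLike.ext fun _ => mem_Lam_iff h2

theorem cent_blk {g : G} (hg : ∀ (i : Fin m) (x : SL), g * (fr i x : G) = (fr i x : G) * g) (x : Fin m → SL) : g * blk x = blk x * g := by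
  have h1 : Subgroup.pi Set.univ (fun _ : Fin m => (⊤ : Subgroup SL)) ≤ (centralizer {g}).comap (blk : (Fin m → SL) →* G) := by
    rw [Subgroup.pi_le_iff]
    rintro i _ ⟨y, -, rfl⟩
    rw [mem_comap, mem_centralizer_singleton_iff]
    exact (hg i y).symm
  have h2 := h1 (show x ∈ _ from fun _ _ => mem_top _)
  rw [mem_comap, mem_centralizer_singleton_iff] at h2
  exact h2.symm

theorem cj_pmh (σ : Equiv.Perm (Fin m)) (i : Fin m) :
    cj (pmh σ : G) (fr i : SL →* G).range = (fr (σ i) : SL →* G).range := by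
  apply le_antisymm
  · rintro _ ⟨_, ⟨x, rfl⟩, rfl⟩
    exact ⟨x, (pmh_mulSingle σ i x).symm⟩
  · rintro _ ⟨x, rfl⟩
    exact ⟨fr i x, ⟨x, rfl⟩, pmh_mulSingle σ i x⟩

theorem good_sylow (P : Sylow 2 (Equiv.Perm (Fin m))) : PermTwo.Good ((P : Subgroup (Equiv.Perm (Fin m))) : Set (Equiv.Perm (Fin m))) := by
  refine ⟨?_, ?_⟩
  · rw [closure_eq]
    exact P.isPGroup'
  · intro S hS hPS w hw ho
    have h1 : S = (P : Subgroup (Equiv.Perm (Fin m))) := P.3 hS hPS
    rw [h1] at hw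
    exact Cfsg.Agent.H94.Syl2Sym.eq_one_of_normalizer P ho hw

/-- **The frame of `Sp_2m(q)`, `q` odd.** -/
theorem pframe (h2 : (2 : F) ≠ 0) (P : Sylow 2 (Equiv.Perm (Fin m))) :
    PFrame (fr : Fin m → (SL →* G)) ((P : Subgroup (Equiv.Perm (Fin m))) : Set (Equiv.Perm (Fin m))) where
  inj := fr_injective
  comm := fr_comm
  norm i g hg := fr_norm h2 hg
  conj i j := ⟨pmh (Equiv.swap i j), by rw [cj_pmh, Equiv.swap_apply_left]⟩
  acts g hg i := ⟨_, fr_acts h2 (mem_Lam_fr.1 hg i)⟩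
  cent g hg h hh := by
    obtain ⟨x, rfl⟩ := (mem_Lam_iff h2).1 hh
    exact cent_blk hg x
  perm σ _ := ⟨pmh σ, cj_pmh σ⟩
  good := good_sylow P

theorem two_ne [Fintype F] (hF : Odd (Fintype.card F)) : (2 : F) ≠ 0 := by
  intro h0
  have h1 : addOrderOf (1 : F) ∣ 2 := by
    apply addOrderOf_dvd_of_nsmul_eq_zero
    rw [nsmul_eq_mul, mul_one]
    exact_mod_cast h0
  rcases (Nat.dvd_prime Nat.prime_two).1 h1 with h2 | h2
  · exact one_ne_zero (AddMonoid.addOrderOf_eq_one_iff.1 h2)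
  · have h3 : 2 ∣ Fintype.card F := h2 ▸ addOrderOf_dvd_card
    exact Nat.not_even_iff_odd.2 hF (even_iff_two_dvd.2 h3)

section Odd

variable [Fintype F] (hF : Odd (Fintype.card F))

include hF

/-- a Sylow 2-subgroup of `Sp_2m(q)` meeting the frame in a Sylow subgroup: elements of odd order of `N(T)` lie in
`SL₂(q) ^ m`. -/
theorem mem_range_of_odd (T : Sylow 2 G)
    (hT : ∀ R : Subgroup G, R ≤ Lam (fr : Fin m → (SL →* G)) → IsPGroup 2 R →
      ∃ l ∈ Lam (fr : Fin m → (SL →* G)), cj l R ≤ T) (i₀ : Fin m) {w : G}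
    (hw : w ∈ normalizer ((T : Subgroup G) : Set G)) (ho : Odd (orderOf w)) : w ∈ (blk : (Fin m → SL) →* G).range := by
  obtain ⟨P⟩ : Nonempty (Sylow 2 (Equiv.Perm (Fin m))) := inferInstance
  exact (mem_Lam_iff (two_ne hF)).1 ((pframe (two_ne hF) P).mem_lam_of_odd hF T hT i₀ hw ho)

omit hF in
/-- the Sylow 2-subgroups containing `P ^ m` -/
theorem exists_cj_le [Finite F] (P : Sylow 2 SL) {T : Subgroup G}
    (hT : ((Subgroup.pi Set.univ (fun _ : Fin m => (P : Subgroup SL))).map (blk : (Fin m → SL) →* G)) ≤ T)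
    (h2 : (2 : F) ≠ 0) (R : Subgroup G) (hR : R ≤ Lam (fr : Fin m → (SL →* G))) (hp : IsPGroup 2 R) :
    ∃ l ∈ Lam (fr : Fin m → (SL →* G)), cj l R ≤ T := by
  have hfac : Fact (Nat.Prime 2) := ⟨Nat.prime_two⟩
  have h1 : ∀ i : Fin m, ∃ l : SL, ∀ x : Fin m → SL, (blk x : G) ∈ R → l * x i * l⁻¹ ∈ (P : Subgroup SL) := by
    intro i
    have h3 : IsPGroup 2 ((R.comap (blk : (Fin m → SL) →* G)).map (Pi.evalMonoidHom (fun _ : Fin m => SL) i)) :=
      (hp.comap_of_injective _ blk_injective).map _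
    obtain ⟨Q, hQ⟩ := h3.exists_le_sylow
    obtain ⟨l, hl⟩ := MulAction.exists_smul_eq SL Q P
    refine ⟨l, fun x hx => ?_⟩
    have h4 : x i ∈ (Q : Subgroup SL) := hQ ⟨x, hx, rfl⟩
    rw [← hl, Sylow.coe_subgroup_smul]
    exact Subgroup.smul_mem_pointwise_smul _ (MulAut.conj l) _ h4
  choose l hl using h1
  refine ⟨blk l, blk_mem_Lam l, ?_⟩
  rintro _ ⟨r, hr, rfl⟩
  obtain ⟨x, rfl⟩ := (mem_Lam_iff h2).1 (hR hr)
  apply hT
  refine ⟨l * x * l⁻¹, fun i _ => hl i x hr, ?_⟩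
  show blk (l * x * l⁻¹) = blk l * blk x * (blk l)⁻¹
  rw [map_mul, map_mul, map_inv]

/-- elements of odd order of the normalizer of a Sylow 2-subgroup containing `P wr T₀` lie in `SL₂(q) ^ m` -/
theorem mem_range_of_odd_wr (P : Sylow 2 SL) (T₀ : Subgroup (Equiv.Perm (Fin m))) (T : Sylow 2 G)
    (hT : Wr (P : Subgroup SL) T₀ ≤ (T : Subgroup G)) (i₀ : Fin m) {w : G}
    (hw : w ∈ normalizer ((T : Subgroup G) : Set G)) (ho : Odd (orderOf w)) : ∃ h : Fin m → SL, w = blk h := by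
  obtain ⟨h, hh⟩ := mem_range_of_odd hF T (fun R hR hp => exists_cj_le P ((le_sup_left).trans hT) (two_ne hF) R hR hp) i₀ hw ho
  exact ⟨h, hh.symm⟩

/-- `q ≡ ±1 mod 8`: elements of odd order of `N(T)` centralise `T`. -/
theorem centralizes (h8 : Fintype.card F % 8 = 1 ∨ Fintype.card F % 8 = 7) (i₀ : Fin m) :
    ∃ T : Sylow 2 G, ∀ w ∈ normalizer ((T : Subgroup G) : Set G), Odd (orderOf w) →
      ∀ t ∈ (T : Subgroup G), w * t = t * w := by
  obtain ⟨P⟩ : Nonempty (Sylow 2 (Equiv.Perm (Fin m))) := inferInstance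
  obtain ⟨T, hT⟩ := exists_sylow (Lam (fr : Fin m → (SL →* G)))
  refine ⟨T, fun w hw ho => (pframe (two_ne hF) P).centralizes_T hF T hT (fun i => Or.inr ?_) i₀ hw ho⟩
  rw [Cfsg.Agent.ClassicalGeometry.PSL2Basic.card_SL2]
  apply Dvd.dvd.mul_left
  obtain ⟨k, hk⟩ : ∃ k, Fintype.card F = 8 * k + 1 ∨ Fintype.card F = 8 * k + 7 := ⟨Fintype.card F / 8, by omega⟩
  rcases hk with hk | hk <;> rw [hk]
  · refine ⟨4 * k ^ 2 + k, ?_⟩
    rw [Nat.sub_eq_iff_eq_add (Nat.one_le_pow _ _ (by omega))]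
    ring
  · refine ⟨4 * k ^ 2 + 7 * k + 3, ?_⟩
    rw [Nat.sub_eq_iff_eq_add (Nat.one_le_pow _ _ (by omega))]
    ring

end Odd

/-! ### central quotients -/

section Quot

variable {K : Type*} [Group K] [Finite K] (Z : Subgroup K) [Z.Normal]

/-- elements of odd order lift -/
theorem lift_odd {g : K} (ho : Odd (orderOf (QuotientGroup.mk' Z g))) :
    ∃ w ∈ zpowers g, Odd (orderOf w) ∧ QuotientGroup.mk' Z w = QuotientGroup.mk' Z g := by
  set r := orderOf (QuotientGroup.mk' Z g) with hr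
  set a := (orderOf g).factorization 2 with ha
  set k := orderOf g / 2 ^ a with hk
  have h0 : orderOf g ≠ 0 := (orderOf_pos g).ne'
  have hodd : Odd k := by
    rw [← Nat.not_even_iff_odd, even_iff_two_dvd]
    exact Nat.not_dvd_ordCompl Nat.prime_two h0
  have hmul : 2 ^ a * k = orderOf g := Nat.ordProj_mul_ordCompl_eq_self _ _
  have hco : Nat.Coprime r (2 ^ a) := Nat.Coprime.pow_right _ (Nat.coprime_two_right.2 ho)
  obtain ⟨e, he1, he2⟩ := Nat.chineseRemainder hco 1 0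
  refine ⟨g ^ e, ⟨e, by simp⟩, ?_, ?_⟩
  · refine hodd.of_dvd_nat (orderOf_dvd_of_pow_eq_one ?_)
    obtain ⟨c, hc⟩ := (Nat.modEq_zero_iff_dvd).1 he2
    rw [hc, ← pow_mul, show 2 ^ a * c * k = (2 ^ a * k) * c by ring, hmul, pow_mul, pow_orderOf_eq_one, one_pow]
  · rw [map_pow]
    conv_rhs => rw [← pow_one (QuotientGroup.mk' Z g)]
    exact pow_eq_pow_iff_modEq.2 he1

/-- the property passes to central quotients -/
theorem oddRow_quot (hZ : IsPGroup 2 Z) (T : Sylow 2 K)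
    (h : ∀ w ∈ normalizer ((T : Subgroup K) : Set K), Odd (orderOf w) → ∀ t ∈ (T : Subgroup K), w * t = t * w) :
    H747.OddRow (K ⧸ Z) := by
  have : Fact (Nat.Prime 2) := ⟨Nat.prime_two⟩
  have hsurj : Function.Surjective (QuotientGroup.mk' Z) := QuotientGroup.mk'_surjective Z
  have hZT : Z ≤ (T : Subgroup K) := hZ.le_sylow_of_normal T
  refine H747.OddRow.of_centralizes (T.mapSurjective hsurj) fun g' hg' ho => ?_
  obtain ⟨g, rfl⟩ := hsurj g'
  obtain ⟨w, hw, hwo, hwe⟩ := lift_odd Z ho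
  have hmem : ∀ x : K, QuotientGroup.mk' Z x ∈ (T : Subgroup K).map (QuotientGroup.mk' Z) ↔ x ∈ (T : Subgroup K) := by
    intro x
    constructor
    · rintro ⟨y, hy, he⟩
      have h1 : y⁻¹ * x ∈ Z := QuotientGroup.eq.1 he
      have h2 := (T : Subgroup K).mul_mem hy (hZT h1)
      rwa [mul_inv_cancel_left] at h2
    · exact fun hx => ⟨x, hx, rfl⟩
  have hgN : g ∈ normalizer ((T : Subgroup K) : Set K) := by
    rw [mem_normalizer_iff]
    intro x
    rw [Sylow.coe_mapSurjective] at hg'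
    have h3 := mem_normalizer_iff.1 hg' (QuotientGroup.mk' Z x)
    rw [← map_inv, ← map_mul, ← map_mul] at h3
    rw [← hmem, ← hmem]
    exact h3
  have hwN : w ∈ normalizer ((T : Subgroup K) : Set K) := (zpowers_le.2 hgN) hw
  intro s hs
  rw [Sylow.coe_mapSurjective] at hs
  obtain ⟨t, ht, rfl⟩ := hs
  rw [← hwe, ← map_mul, ← map_mul, h w hwN hwo t ht]

end Quot

theorem center_isPGroup (hm : 1 ≤ m) : IsPGroup 2 (center G) := by
  rintro ⟨z, hz⟩
  obtain ⟨a, ha⟩ := (Cfsg.Agent.LieClassical.SympCenter.mem_center_iff m z).1 hz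
  have h1 := Cfsg.Agent.LieClassical.SympCenter.sq_eq_one_of_smul_mem hm (ha ▸ z.2)
  refine ⟨1, Subtype.ext (Subtype.ext ?_)⟩
  show ((z ^ 2 ^ 1 : G) : Mat) = 1
  rw [pow_one, pow_two]
  show (z : Mat) * (z : Mat) = 1
  rw [ha, smul_mul_assoc, one_mul, smul_smul, h1, one_smul]

/-- **The row `PSp_2m(q)`, `q ≡ ±1 mod 8`.** -/
theorem row_PSp [Fintype F] (hm : 1 ≤ m) (h8 : Fintype.card F % 8 = 1 ∨ Fintype.card F % 8 = 7) :
    H747.RowTwo (PSp m F) := by
  have hF : Odd (Fintype.card F) := by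
    rw [Nat.odd_iff]
    omega
  obtain ⟨T, hT⟩ := centralizes (m := m) hF h8 ⟨0, hm⟩
  exact Or.inl (oddRow_quot (center G) (center_isPGroup hm) T hT)

end Cfsg.Agent.H745.RowSp
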