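import Cfsg.Agent.H745.RowAbs
import Cfsg.Agent.Lib.SL2Mat

/-!
# Torus elements act on `SL₂(q)` like diagonal matrices (helper745, for S5161)

* `torus` : `t` normalises the images of the upper and lower unitriangular matrices and commutes with the image of the
  diagonal matrices; then `t` acts like `diag(c, 1)`;
* `not_isSquare_of_pow` : `c ^ 2 ^ a = -1` where `2 ^ (a + 1)` does not divide ... : `c` is not a square.
-/

set_option autoImplicit false
set_option linter.style.haveILetI false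

namespace Cfsg.Agent.H745.TorSL

open Cfsg.Agent.Lib.SL2Mat Cfsg.Agent.H745.RowAbs

local notation "SL2" => Matrix.SpecialLinearGroup (Fin 2)

variable {F : Type*} [Field F] {K : Type*} [Group K]

/-- conjugation by `diag(c, 1)` -/
def dc (c : F) (hc : c ≠ 0) : SL2 F →* SL2 F where
  toFun x := mk (ent x 0 0) (c * ent x 0 1) (c⁻¹ * ent x 1 0) (ent x 1 1) (by
    have := det_eq x
    field_simp
    linear_combination this)
  map_one' := by
    refine ext_ent ?_ ?_ ?_ ?_ <;> simp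
  map_mul' x y := by
    refine ext_ent ?_ ?_ ?_ ?_ <;> simp only [ent_mul, mk_00, mk_01, mk_10, mk_11] <;> field_simp

theorem dc_up (c : F) (hc : c ≠ 0) (a : F) : dc c hc (up a) = up (c * a) := by
  refine ext_ent ?_ ?_ ?_ ?_ <;> simp [dc]

theorem dc_lo (c : F) (hc : c ≠ 0) (a : F) : dc c hc (lo a) = lo (c⁻¹ * a) := by
  refine ext_ent ?_ ?_ ?_ ?_ <;> simp [dc]

theorem acts_dc {φ : SL2 F →* K} (hφ : Function.Injective φ) {t : K} {c : F} (hc : c ≠ 0)
    (h : ∀ x, t * φ x * t⁻¹ = φ (dc c hc x)) : Acts φ t !![c, 0; 0, 1] := by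
  refine ⟨by simpa using hc, fun x y hxy => ?_⟩
  have h1 : y = dc c hc x := by
    apply hφ
    rw [← h, hxy]
    group
  subst h1
  have e0 : ∀ (u : SL2 F) i j, u.1 i j = ent u i j := fun _ _ _ => rfl
  ext i j
  fin_cases i <;> fin_cases j <;>
    simp only [Fin.zero_eta, Fin.mk_one, Matrix.mul_apply, Fin.sum_univ_two, e0, Matrix.of_apply, Matrix.cons_val', Matrix.cons_val_zero,
      Matrix.cons_val_one, Matrix.cons_val_fin_one, dc, MonoidHom.coe_mk, OneHom.coe_mk, mk_00, mk_01, mk_10, mk_11] <;>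
    field_simp <;> ring

theorem neg_one_eq_dg : (-1 : SL2 F) = dg (-1) (neg_ne_zero.2 one_ne_zero) := by
  refine ext_ent ?_ ?_ ?_ ?_
  · show (-(1 : Matrix (Fin 2) (Fin 2) F)) 0 0 = _
    simp
  · show (-(1 : Matrix (Fin 2) (Fin 2) F)) 0 1 = _
    simp
  · show (-(1 : Matrix (Fin 2) (Fin 2) F)) 1 0 = _
    simp
  · show (-(1 : Matrix (Fin 2) (Fin 2) F)) 1 1 = _
    simp

theorem dg_pow (b : F) (hb : b ≠ 0) (k : ℕ) : (dg b hb) ^ k = dg (b ^ k) (pow_ne_zero k hb) := by
  induction k with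
  | zero =>
    rw [pow_zero]
    refine ext_ent ?_ ?_ ?_ ?_ <;> simp
  | succ k ih =>
    rw [pow_succ, ih]
    refine ext_ent ?_ ?_ ?_ ?_ <;> simp [ent_mul, pow_succ]
    ring

/-- a `2`-power root of `-1` of maximal order -/
theorem exists_max_root [Finite F] (h2 : (2 : F) ≠ 0) :
    ∃ (a : ℕ) (ζ : F), ζ ^ 2 ^ a = -1 ∧ ∀ μ : F, μ ^ 2 ^ (a + 1) ≠ -1 := by
  classical
  have := Fintype.ofFinite F
  let P : ℕ → Prop := fun a => ∃ ζ : F, ζ ^ 2 ^ a = -1
  have hb : ∀ a, P a → a ≤ Fintype.card Fˣ := by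
    rintro a ⟨ζ, hζ⟩
    have h0 : ζ ≠ 0 := by
      rintro rfl
      rw [zero_pow (by positivity)] at hζ
      exact neg_ne_zero.2 one_ne_zero hζ.symm
    set u : Fˣ := Units.mk0 ζ h0 with hu
    have h1 : ¬ u ^ 2 ^ a = 1 := by
      intro h
      have h3 : ζ ^ 2 ^ a = 1 := by
        have := congrArg Units.val h
        rwa [Units.val_pow_eq_pow_val, Units.val_one, hu, Units.val_mk0] at this
      rw [hζ] at h3
      apply h2
      linear_combination -h3
    have h3 : u ^ 2 ^ (a + 1) = 1 := by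
      apply Units.ext
      rw [Units.val_pow_eq_pow_val, Units.val_one, hu, Units.val_mk0, pow_succ, pow_mul, hζ]
      norm_num
    have h4 := orderOf_eq_prime_pow h1 h3
    have h5 : orderOf u ≤ Fintype.card Fˣ := orderOf_le_card_univ
    rw [h4] at h5
    have h6 : a < 2 ^ a := Nat.lt_two_pow_self
    have h7 : 2 ^ a ≤ 2 ^ (a + 1) := Nat.pow_le_pow_right (by norm_num) (by omega)
    omega
  have h0 : P 0 := ⟨-1, by norm_num⟩
  refine ⟨Nat.findGreatest P (Fintype.card Fˣ), ?_⟩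
  obtain ⟨ζ, hζ⟩ := Nat.findGreatest_spec (P := P) (Nat.zero_le _) h0
  refine ⟨ζ, hζ, fun μ hμ => ?_⟩
  have h3 : P (Nat.findGreatest P (Fintype.card Fˣ) + 1) := ⟨μ, hμ⟩
  have h4 := Nat.le_findGreatest (hb _ h3) h3
  omega

theorem not_isSquare_of {a : ℕ} (h : ∀ μ : F, μ ^ 2 ^ (a + 1) ≠ -1) {c : F} (hc : c ^ 2 ^ a = -1) : ¬ IsSquare c := by
  rintro ⟨μ, rfl⟩
  apply h μ
  rw [pow_succ, mul_comm, pow_mul, pow_two]
  exact hc

theorem ent_sq {x : SL2 F} (h2 : (2 : F) ≠ 0) (h : x * x = -1) (h10 : ent x 1 0 ≠ 0) (he : ent x 0 0 = ent x 1 1) :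
    ent x 0 0 = 0 := by
  have e1 := congrArg (fun u => ent u 1 0) h
  simp only [ent_mul] at e1
  have e2 : ent (-1 : SL2 F) 1 0 = 0 := by
    show (-(1 : Matrix (Fin 2) (Fin 2) F)) 1 0 = 0
    simp
  rw [e2, ← he] at e1
  have e3 : 2 * ent x 1 0 * ent x 0 0 = 0 := by linear_combination e1
  rcases mul_eq_zero.1 e3 with h3 | h3
  · exact absurd h3 (mul_ne_zero h2 h10)
  · exact h3

/-- **The torus acts diagonally.** -/
theorem torus {φ : SL2 F →* K} (hφ : Function.Injective φ) (h2 : (2 : F) ≠ 0) {t : K}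
    (hu : ∀ a, ∃ b, t * φ (up a) * t⁻¹ = φ (up b)) (hl : ∀ a, ∃ b, t * φ (lo a) * t⁻¹ = φ (lo b))
    (hd : ∀ (b : F) (hb : b ≠ 0), t * φ (dg b hb) = φ (dg b hb) * t) :
    ∃ (c : F) (hc : c ≠ 0), ∀ x, t * φ x * t⁻¹ = φ (dc c hc x) := by
  choose f hf using hu
  choose g hg using hl
  have hconj : ∀ x y : SL2 F, t * φ (x * y) * t⁻¹ = (t * φ x * t⁻¹) * (t * φ y * t⁻¹) := by
    intro x y
    rw [map_mul]; group
  have f_add : ∀ a b, f (a + b) = f a + f b := by
    intro a b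
    apply up_inj
    apply hφ
    rw [← hf, ← up_mul, hconj, hf, hf, ← map_mul, up_mul]
  have g_add : ∀ a b, g (a + b) = g a + g b := by
    intro a b
    apply lo_inj
    apply hφ
    rw [← hg, ← lo_mul, hconj, hg, hg, ← map_mul, lo_mul]
  have hdg : ∀ (b : F) (hb : b ≠ 0), t * φ (dg b hb) * t⁻¹ = φ (dg b hb) := by
    intro b hb
    rw [hd]; group
  have f_sq : ∀ b a : F, f (b ^ 2 * a) = b ^ 2 * f a := by
    intro b a
    by_cases hb : b = 0
    · subst hb
      have h0 : f 0 = 0 := by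
        have := f_add 0 0
        rw [add_zero] at this
        linear_combination -this
      rw [zero_pow two_ne_zero, zero_mul, zero_mul, h0]
    · have h1 : t * φ (dg b hb * up a) * t⁻¹ = t * φ (up (b ^ 2 * a) * dg b hb) * t⁻¹ := by rw [dg_up]
      rw [hconj, hconj, hdg, hf, hf, ← map_mul, ← map_mul, dg_up] at h1
      have h3 := mul_right_cancel (hφ h1)
      exact (up_inj h3).symm
  have dg_lo : ∀ (b c : F) (hb : b ≠ 0), dg b hb * lo (b ^ 2 * c) = lo c * dg b hb := by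
    intro b c hb
    refine ext_ent ?_ ?_ ?_ ?_ <;> simp [ent_mul]
    field_simp
  have g_sq : ∀ b a : F, g (b ^ 2 * a) = b ^ 2 * g a := by
    intro b a
    by_cases hb : b = 0
    · subst hb
      have h0 : g 0 = 0 := by
        have := g_add 0 0
        rw [add_zero] at this
        linear_combination -this
      rw [zero_pow two_ne_zero, zero_mul, zero_mul, h0]
    · have h1 : t * φ (dg b hb * lo (b ^ 2 * a)) * t⁻¹ = t * φ (lo a * dg b hb) * t⁻¹ := by rw [dg_lo]
      rw [hconj, hconj, hdg, hg, hg, ← map_mul, ← map_mul] at h1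
      have h3 := hφ h1
      rw [← dg_lo] at h3
      exact lo_inj (mul_left_cancel h3)
  have sub_of : ∀ k : F → F, (∀ a b, k (a + b) = k a + k b) → (∀ b a, k (b ^ 2 * a) = b ^ 2 * k a) →
      ∀ a, k a = k 1 * a := by
    intro k hk1 hk2 a
    have h1 := hk2 ((a + 1) / 2) 1
    have h3 := hk2 ((a - 1) / 2) 1
    have h4 := hk1 a (((a - 1) / 2) ^ 2 * 1)
    have h5 : a + ((a - 1) / 2) ^ 2 * 1 = ((a + 1) / 2) ^ 2 * 1 := by
      field_simp
      ring
    rw [h5, h1, h3] at h4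
    have h6 : ((a + 1) / 2) ^ 2 = a + ((a - 1) / 2) ^ 2 := by
      field_simp
      ring
    rw [h6] at h4
    linear_combination -h4
  have hf' := sub_of f f_add f_sq
  have hg' := sub_of g g_add g_sq
  have hf1 : f 1 ≠ 0 := by
    intro h0
    have h1 := hf 1
    rw [h0, up_zero, map_one, mul_inv_eq_one] at h1
    have h3 : φ (up 1) = 1 := mul_eq_left.1 h1
    rw [← map_one φ] at h3
    have h4 := hφ h3
    rw [← up_zero] at h4
    exact one_ne_zero (up_inj h4)
  have hg1 : g 1 ≠ 0 := by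
    intro h0
    have h1 := hg 1
    rw [h0, lo_zero, map_one, mul_inv_eq_one] at h1
    have h3 : φ (lo 1) = 1 := mul_eq_left.1 h1
    rw [← map_one φ] at h3
    have h4 := hφ h3
    rw [← lo_zero] at h4
    exact one_ne_zero (lo_inj h4)
  have hcc : f 1 * g 1 = 1 := by
    have hneg := neg_one_eq_dg (F := F)
    have hw : (up 1 * lo (-1) * up 1 : SL2 F) * (up 1 * lo (-1) * up 1) = -1 := by
      rw [hneg]
      refine ext_ent ?_ ?_ ?_ ?_ <;> simp [ent_mul]
    have h1 : t * φ ((up 1 * lo (-1) * up 1 : SL2 F) * (up 1 * lo (-1) * up 1)) * t⁻¹ = φ (-1) := by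
      rw [hw, hneg, hdg]
    have h3 : t * φ (up 1 * lo (-1) * up 1) * t⁻¹ = φ (up (f 1) * lo (-(g 1)) * up (f 1)) := by
      rw [hconj, hconj, hf, hg, hg' (-1), ← map_mul, ← map_mul]
      congr 4
      ring
    rw [hconj, h3, ← map_mul] at h1
    have h4 := hφ h1
    have h5 := ent_sq h2 h4 (by simp [ent_mul, hg1]) (by simp [ent_mul]; ring)
    simp only [ent_mul, up_00, up_01, up_10, up_11, lo_00, lo_01, lo_10, lo_11] at h5
    linear_combination -h5
  refine ⟨f 1, hf1, fun x => ?_⟩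
  have key : ((MulAut.conj t).toMonoidHom.comp φ) = φ.comp (dc (f 1) hf1) := by
    apply hom_ext
    · intro b
      show t * φ (up b) * t⁻¹ = φ (dc (f 1) hf1 (up b))
      rw [hf, dc_up, ← hf']
    · intro b
      show t * φ (lo b) * t⁻¹ = φ (dc (f 1) hf1 (lo b))
      rw [hg, dc_lo, hg' b]
      congr 2
      have : (f 1)⁻¹ = g 1 := by
        rw [inv_eq_iff_eq_inv]
        exact eq_inv_of_mul_eq_one_left hcc
      rw [this]
  exact DFunLike.congr_fun key x

end Cfsg.Agent.H745.TorSL
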